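/-
Coordinates in the fixed unipotent subgroup of twisted F4.
-/
import Cfsg.Agent.Lib.Chev.Twist.Fam.F4
import Cfsg.Agent.Lib.Chev.Orders

set_option autoImplicit false
set_option maxRecDepth 100000
set_option maxHeartbeats 1000000

namespace CfsgLib.Chev.F42Invol

open Cfsg.Lie Matrix CfsgLib.Chev

variable {K : Type*} [Field K]

local notation "g₄" => stdF4.good

/-- root elements of type F4 -/
noncomputable abbrev X (r : ℕ) (t : K) : GL chevF4.Idx K := xG g₄ r t

/-- the ordering by directions -/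
def ord : List ℕ :=
  [27, 25, 28, 30, 37, 32, 35, 31, 40, 46, 39, 45, 29, 41, 44, 47, 38, 43, 34, 26, 36, 42, 33, 24]

/-- ordered pairs of roots that do not commute in characteristic two -/
def sums : List (ℕ × ℕ) :=
  [(27, 35), (27, 39), (27, 36), (27, 33), (25, 31), (25, 45), (25, 42), (25, 24), (28, 38), (28, 34), (28, 36), (28, 33), (30, 43), (30, 26), (30, 42), (30, 24), (37, 29), (37, 36), (32, 41), (32, 42), (35, 29), (35, 38), (31, 41), (31, 43), (40, 33), (46, 24), (39, 34), (45, 26), (29, 34), (29, 33), (41, 26), (41, 24), (27, 25), (27, 43), (27, 26), (25, 38), (25, 34), (28, 42), (28, 24), (30, 36), (30, 33), (37, 26), (37, 24), (32, 34), (32, 33), (35, 31), (35, 24), (31, 33), (29, 41), (34, 26)]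

/-- the first root comes earlier and the two commute -/
def okNil (r s : ℕ) : Bool :=
  ord.contains r && ord.contains s && decide (ord.idxOf r < ord.idxOf s) &&
    sums.all fun p => !(p.1 == r && p.2 == s)

/-- commutator terms with odd coefficient -/
noncomputable def oddTerms (r s : ℕ) : List (ℕ × ℕ × ℕ) :=
  ((auxF4.terms r s).filter fun c => c.2.1 % 2 != 0).map fun c => (c.1, c.2.2.1, c.2.2.2)

lemma nil_data : ∀ r ∈ ord, ∀ s ∈ ord, okNil r s = true →
    r < chevF4.nroots ∧ s < chevF4.nroots ∧ s ≠ r ∧ s ≠ auxF4.neg r ∧ oddTerms r s = [] := by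
  decide +kernel

variable [CharP K 2]

lemma cast_odd {z : ℤ} (h : (z % 2 != 0) = true) : (z : K) = 1 := by
  rw [← Int.cast_one]
  exact (CharP.intCast_eq_intCast K 2).2 (by simp at h; unfold Int.ModEq; omega)

lemma cast_even {z : ℤ} (h : ¬ (z % 2 != 0) = true) : (z : K) = 0 := by
  rw [← Int.cast_zero]
  exact (CharP.intCast_eq_intCast K 2).2 (by simp at h; unfold Int.ModEq; omega)

lemma swG {r s : ℕ} (hr : r < chevF4.nroots) (hs : s < chevF4.nroots) (hsr : s ≠ r)
    (hsn : s ≠ auxF4.neg r) (t u : K) : X s u * X r t =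
      X r t * (X s u * ((oddTerms r s).map fun c => X c.1 (t ^ c.2.1 * u ^ c.2.2)).prod) := by
  have h := xG_swap stdF4 hr hs hsr hsn t u
  rw [h, mul_assoc]
  congr 2
  simp only [oddTerms, CharTwo.neg_eq, List.map_map, Function.comp_def]
  induction auxF4.terms r s with
  | nil => rfl
  | cons c L ih =>
    by_cases hc : (c.2.1 % 2 != 0) = true
    · rw [List.filter_cons, if_pos hc, List.map_cons, List.map_cons, List.prod_cons, List.prod_cons, ih,
        cast_odd hc, one_mul]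
    · rw [List.filter_cons, if_neg hc, List.map_cons, List.prod_cons, ih, cast_even hc, zero_mul, zero_mul,
        xG_zero, one_mul]

lemma swN {r s : ℕ} (h : okNil r s = true) (t u : K) : X s u * X r t = 1 * (X r t * X s u) := by
  have h' := h
  simp only [okNil, Bool.and_eq_true, List.contains_iff_mem] at h'
  obtain ⟨hr, hs, hsr, hsn, hT⟩ := nil_data r h'.1.1.1 s h'.1.1.2 h
  rw [swG hr hs hsr hsn, hT, one_mul]
  simp

lemma swN' {r s : ℕ} (h : okNil r s = true) (t u : K) (z : GL chevF4.Idx K) :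
    X s u * (X r t * z) = 1 * (X r t * (X s u * z)) := by
  rw [← mul_assoc, swN h, one_mul, one_mul, mul_assoc]

lemma sw1 {r s w : ℕ} (h : r < chevF4.nroots ∧ s < chevF4.nroots ∧ s ≠ r ∧ s ≠ auxF4.neg r)
    (hT : oddTerms r s = [(w, 1, 1)]) (t u : K) :
    X s u * X r t = X r t * (X s u * X w (t * u)) := by
  rw [swG h.1 h.2.1 h.2.2.1 h.2.2.2, hT]; simp

lemma sw21 {r s w v : ℕ} (h : r < chevF4.nroots ∧ s < chevF4.nroots ∧ s ≠ r ∧ s ≠ auxF4.neg r)
    (hT : oddTerms r s = [(w, 1, 1), (v, 2, 1)]) (t u : K) :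
    X s u * X r t = X r t * (X s u * (X w (t * u) * X v (t ^ 2 * u))) := by
  rw [swG h.1 h.2.1 h.2.2.1 h.2.2.2, hT]; simp

lemma sw12 {r s w v : ℕ} (h : r < chevF4.nroots ∧ s < chevF4.nroots ∧ s ≠ r ∧ s ≠ auxF4.neg r)
    (hT : oddTerms r s = [(w, 1, 1), (v, 1, 2)]) (t u : K) :
    X s u * X r t = X r t * (X s u * (X w (t * u) * X v (t * u ^ 2))) := by
  rw [swG h.1 h.2.1 h.2.2.1 h.2.2.2, hT]; simp

lemma s27_35 (t u : K) : X 35 u * X 27 t = X 27 t * (X 35 u * X 37 (t * u)) :=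
  sw1 (by decide +kernel) (by decide +kernel) t u
lemma s27_39 (t u : K) : X 39 u * X 27 t = X 27 t * (X 39 u * X 40 (t * u)) :=
  sw1 (by decide +kernel) (by decide +kernel) t u
lemma s27_36 (t u : K) : X 36 u * X 27 t = X 27 t * (X 36 u * X 38 (t * u)) :=
  sw1 (by decide +kernel) (by decide +kernel) t u
lemma s27_33 (t u : K) : X 33 u * X 27 t = X 27 t * (X 33 u * X 34 (t * u)) :=
  sw1 (by decide +kernel) (by decide +kernel) t u
lemma s25_31 (t u : K) : X 31 u * X 25 t = X 25 t * (X 31 u * X 32 (t * u)) :=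
  sw1 (by decide +kernel) (by decide +kernel) t u
lemma s25_45 (t u : K) : X 45 u * X 25 t = X 25 t * (X 45 u * X 46 (t * u)) :=
  sw1 (by decide +kernel) (by decide +kernel) t u
lemma s25_42 (t u : K) : X 42 u * X 25 t = X 25 t * (X 42 u * X 43 (t * u)) :=
  sw1 (by decide +kernel) (by decide +kernel) t u
lemma s25_24 (t u : K) : X 24 u * X 25 t = X 25 t * (X 24 u * X 26 (t * u)) :=
  sw1 (by decide +kernel) (by decide +kernel) t u
lemma s28_38 (t u : K) : X 38 u * X 28 t = X 28 t * (X 38 u * X 40 (t * u)) :=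
  sw1 (by decide +kernel) (by decide +kernel) t u
lemma s28_34 (t u : K) : X 34 u * X 28 t = X 28 t * (X 34 u * X 37 (t * u)) :=
  sw1 (by decide +kernel) (by decide +kernel) t u
lemma s28_36 (t u : K) : X 36 u * X 28 t = X 28 t * (X 36 u * X 39 (t * u)) :=
  sw1 (by decide +kernel) (by decide +kernel) t u
lemma s28_33 (t u : K) : X 33 u * X 28 t = X 28 t * (X 33 u * X 35 (t * u)) :=
  sw1 (by decide +kernel) (by decide +kernel) t u
lemma s30_43 (t u : K) : X 43 u * X 30 t = X 30 t * (X 43 u * X 46 (t * u)) :=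
  sw1 (by decide +kernel) (by decide +kernel) t u
lemma s30_26 (t u : K) : X 26 u * X 30 t = X 30 t * (X 26 u * X 32 (t * u)) :=
  sw1 (by decide +kernel) (by decide +kernel) t u
lemma s30_42 (t u : K) : X 42 u * X 30 t = X 30 t * (X 42 u * X 45 (t * u)) :=
  sw1 (by decide +kernel) (by decide +kernel) t u
lemma s30_24 (t u : K) : X 24 u * X 30 t = X 30 t * (X 24 u * X 31 (t * u)) :=
  sw1 (by decide +kernel) (by decide +kernel) t u
lemma s37_29 (t u : K) : X 29 u * X 37 t = X 37 t * (X 29 u * X 40 (t * u)) :=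
  sw1 (by decide +kernel) (by decide +kernel) t u
lemma s37_36 (t u : K) : X 36 u * X 37 t = X 37 t * (X 36 u * X 44 (t * u)) :=
  sw1 (by decide +kernel) (by decide +kernel) t u
lemma s32_41 (t u : K) : X 41 u * X 32 t = X 32 t * (X 41 u * X 46 (t * u)) :=
  sw1 (by decide +kernel) (by decide +kernel) t u
lemma s32_42 (t u : K) : X 42 u * X 32 t = X 32 t * (X 42 u * X 47 (t * u)) :=
  sw1 (by decide +kernel) (by decide +kernel) t u
lemma s35_29 (t u : K) : X 29 u * X 35 t = X 35 t * (X 29 u * X 39 (t * u)) :=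
  sw1 (by decide +kernel) (by decide +kernel) t u
lemma s35_38 (t u : K) : X 38 u * X 35 t = X 35 t * (X 38 u * X 44 (t * u)) :=
  sw1 (by decide +kernel) (by decide +kernel) t u
lemma s31_41 (t u : K) : X 41 u * X 31 t = X 31 t * (X 41 u * X 45 (t * u)) :=
  sw1 (by decide +kernel) (by decide +kernel) t u
lemma s31_43 (t u : K) : X 43 u * X 31 t = X 31 t * (X 43 u * X 47 (t * u)) :=
  sw1 (by decide +kernel) (by decide +kernel) t u
lemma s40_33 (t u : K) : X 33 u * X 40 t = X 40 t * (X 33 u * X 44 (t * u)) :=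
  sw1 (by decide +kernel) (by decide +kernel) t u
lemma s46_24 (t u : K) : X 24 u * X 46 t = X 46 t * (X 24 u * X 47 (t * u)) :=
  sw1 (by decide +kernel) (by decide +kernel) t u
lemma s39_34 (t u : K) : X 34 u * X 39 t = X 39 t * (X 34 u * X 44 (t * u)) :=
  sw1 (by decide +kernel) (by decide +kernel) t u
lemma s45_26 (t u : K) : X 26 u * X 45 t = X 45 t * (X 26 u * X 47 (t * u)) :=
  sw1 (by decide +kernel) (by decide +kernel) t u
lemma s29_34 (t u : K) : X 34 u * X 29 t = X 29 t * (X 34 u * X 38 (t * u)) :=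
  sw1 (by decide +kernel) (by decide +kernel) t u
lemma s29_33 (t u : K) : X 33 u * X 29 t = X 29 t * (X 33 u * X 36 (t * u)) :=
  sw1 (by decide +kernel) (by decide +kernel) t u
lemma s41_26 (t u : K) : X 26 u * X 41 t = X 41 t * (X 26 u * X 43 (t * u)) :=
  sw1 (by decide +kernel) (by decide +kernel) t u
lemma s41_24 (t u : K) : X 24 u * X 41 t = X 41 t * (X 24 u * X 42 (t * u)) :=
  sw1 (by decide +kernel) (by decide +kernel) t u
lemma s27_25 (t u : K) : X 25 u * X 27 t = X 27 t * (X 25 u * (X 28 (t * u) * X 30 (t ^ 2 * u))) :=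
  sw21 (by decide +kernel) (by decide +kernel) t u
lemma s27_43 (t u : K) : X 43 u * X 27 t = X 27 t * (X 43 u * (X 44 (t * u) * X 45 (t ^ 2 * u))) :=
  sw21 (by decide +kernel) (by decide +kernel) t u
lemma s27_26 (t u : K) : X 26 u * X 27 t = X 27 t * (X 26 u * (X 29 (t * u) * X 31 (t ^ 2 * u))) :=
  sw21 (by decide +kernel) (by decide +kernel) t u
lemma s25_38 (t u : K) : X 38 u * X 25 t = X 25 t * (X 38 u * (X 39 (t * u) * X 47 (t * u ^ 2))) :=
  sw12 (by decide +kernel) (by decide +kernel) t u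
lemma s25_34 (t u : K) : X 34 u * X 25 t = X 25 t * (X 34 u * (X 35 (t * u) * X 41 (t * u ^ 2))) :=
  sw12 (by decide +kernel) (by decide +kernel) t u
lemma s28_42 (t u : K) : X 42 u * X 28 t = X 28 t * (X 42 u * (X 44 (t * u) * X 46 (t ^ 2 * u))) :=
  sw21 (by decide +kernel) (by decide +kernel) t u
lemma s28_24 (t u : K) : X 24 u * X 28 t = X 28 t * (X 24 u * (X 29 (t * u) * X 32 (t ^ 2 * u))) :=
  sw21 (by decide +kernel) (by decide +kernel) t u
lemma s30_36 (t u : K) : X 36 u * X 30 t = X 30 t * (X 36 u * (X 40 (t * u) * X 47 (t * u ^ 2))) :=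
  sw12 (by decide +kernel) (by decide +kernel) t u
lemma s30_33 (t u : K) : X 33 u * X 30 t = X 30 t * (X 33 u * (X 37 (t * u) * X 41 (t * u ^ 2))) :=
  sw12 (by decide +kernel) (by decide +kernel) t u
lemma s37_26 (t u : K) : X 26 u * X 37 t = X 37 t * (X 26 u * (X 39 (t * u) * X 46 (t ^ 2 * u))) :=
  sw21 (by decide +kernel) (by decide +kernel) t u
lemma s37_24 (t u : K) : X 24 u * X 37 t = X 37 t * (X 24 u * (X 38 (t * u) * X 45 (t ^ 2 * u))) :=
  sw21 (by decide +kernel) (by decide +kernel) t u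
lemma s32_34 (t u : K) : X 34 u * X 32 t = X 32 t * (X 34 u * (X 40 (t * u) * X 45 (t * u ^ 2))) :=
  sw12 (by decide +kernel) (by decide +kernel) t u
lemma s32_33 (t u : K) : X 33 u * X 32 t = X 32 t * (X 33 u * (X 39 (t * u) * X 43 (t * u ^ 2))) :=
  sw12 (by decide +kernel) (by decide +kernel) t u
lemma s35_31 (t u : K) : X 31 u * X 35 t = X 35 t * (X 31 u * (X 40 (t * u) * X 46 (t ^ 2 * u))) :=
  sw21 (by decide +kernel) (by decide +kernel) t u
lemma s35_24 (t u : K) : X 24 u * X 35 t = X 35 t * (X 24 u * (X 36 (t * u) * X 43 (t ^ 2 * u))) :=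
  sw21 (by decide +kernel) (by decide +kernel) t u
lemma s31_33 (t u : K) : X 33 u * X 31 t = X 31 t * (X 33 u * (X 38 (t * u) * X 42 (t * u ^ 2))) :=
  sw12 (by decide +kernel) (by decide +kernel) t u
lemma s29_41 (t u : K) : X 41 u * X 29 t = X 29 t * (X 41 u * (X 44 (t * u) * X 47 (t ^ 2 * u))) :=
  sw21 (by decide +kernel) (by decide +kernel) t u
lemma s34_26 (t u : K) : X 26 u * X 34 t = X 34 t * (X 26 u * (X 36 (t * u) * X 42 (t ^ 2 * u))) :=
  sw21 (by decide +kernel) (by decide +kernel) t u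

lemma push {G : Type*} [Monoid G] {a b c : G} (h : a * b = c) (z : G) : a * (b * z) = c * z := by
  rw [← mul_assoc, h]

lemma s27_35' (t u : K) (z : GL chevF4.Idx K) : X 35 u * (X 27 t * z) =
    X 27 t * (X 35 u * X 37 (t * u)) * z := by
  rw [← mul_assoc, s27_35]
lemma s27_39' (t u : K) (z : GL chevF4.Idx K) : X 39 u * (X 27 t * z) =
    X 27 t * (X 39 u * X 40 (t * u)) * z := by
  rw [← mul_assoc, s27_39]
lemma s27_36' (t u : K) (z : GL chevF4.Idx K) : X 36 u * (X 27 t * z) =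
    X 27 t * (X 36 u * X 38 (t * u)) * z := by
  rw [← mul_assoc, s27_36]
lemma s27_33' (t u : K) (z : GL chevF4.Idx K) : X 33 u * (X 27 t * z) =
    X 27 t * (X 33 u * X 34 (t * u)) * z := by
  rw [← mul_assoc, s27_33]
lemma s25_31' (t u : K) (z : GL chevF4.Idx K) : X 31 u * (X 25 t * z) =
    X 25 t * (X 31 u * X 32 (t * u)) * z := by
  rw [← mul_assoc, s25_31]
lemma s25_45' (t u : K) (z : GL chevF4.Idx K) : X 45 u * (X 25 t * z) =
    X 25 t * (X 45 u * X 46 (t * u)) * z := by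
  rw [← mul_assoc, s25_45]
lemma s25_42' (t u : K) (z : GL chevF4.Idx K) : X 42 u * (X 25 t * z) =
    X 25 t * (X 42 u * X 43 (t * u)) * z := by
  rw [← mul_assoc, s25_42]
lemma s25_24' (t u : K) (z : GL chevF4.Idx K) : X 24 u * (X 25 t * z) =
    X 25 t * (X 24 u * X 26 (t * u)) * z := by
  rw [← mul_assoc, s25_24]
lemma s28_38' (t u : K) (z : GL chevF4.Idx K) : X 38 u * (X 28 t * z) =
    X 28 t * (X 38 u * X 40 (t * u)) * z := by
  rw [← mul_assoc, s28_38]
lemma s28_34' (t u : K) (z : GL chevF4.Idx K) : X 34 u * (X 28 t * z) =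
    X 28 t * (X 34 u * X 37 (t * u)) * z := by
  rw [← mul_assoc, s28_34]
lemma s28_36' (t u : K) (z : GL chevF4.Idx K) : X 36 u * (X 28 t * z) =
    X 28 t * (X 36 u * X 39 (t * u)) * z := by
  rw [← mul_assoc, s28_36]
lemma s28_33' (t u : K) (z : GL chevF4.Idx K) : X 33 u * (X 28 t * z) =
    X 28 t * (X 33 u * X 35 (t * u)) * z := by
  rw [← mul_assoc, s28_33]
lemma s30_43' (t u : K) (z : GL chevF4.Idx K) : X 43 u * (X 30 t * z) =
    X 30 t * (X 43 u * X 46 (t * u)) * z := by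
  rw [← mul_assoc, s30_43]
lemma s30_26' (t u : K) (z : GL chevF4.Idx K) : X 26 u * (X 30 t * z) =
    X 30 t * (X 26 u * X 32 (t * u)) * z := by
  rw [← mul_assoc, s30_26]
lemma s30_42' (t u : K) (z : GL chevF4.Idx K) : X 42 u * (X 30 t * z) =
    X 30 t * (X 42 u * X 45 (t * u)) * z := by
  rw [← mul_assoc, s30_42]
lemma s30_24' (t u : K) (z : GL chevF4.Idx K) : X 24 u * (X 30 t * z) =
    X 30 t * (X 24 u * X 31 (t * u)) * z := by
  rw [← mul_assoc, s30_24]
lemma s37_29' (t u : K) (z : GL chevF4.Idx K) : X 29 u * (X 37 t * z) =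
    X 37 t * (X 29 u * X 40 (t * u)) * z := by
  rw [← mul_assoc, s37_29]
lemma s37_36' (t u : K) (z : GL chevF4.Idx K) : X 36 u * (X 37 t * z) =
    X 37 t * (X 36 u * X 44 (t * u)) * z := by
  rw [← mul_assoc, s37_36]
lemma s32_41' (t u : K) (z : GL chevF4.Idx K) : X 41 u * (X 32 t * z) =
    X 32 t * (X 41 u * X 46 (t * u)) * z := by
  rw [← mul_assoc, s32_41]
lemma s32_42' (t u : K) (z : GL chevF4.Idx K) : X 42 u * (X 32 t * z) =
    X 32 t * (X 42 u * X 47 (t * u)) * z := by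
  rw [← mul_assoc, s32_42]
lemma s35_29' (t u : K) (z : GL chevF4.Idx K) : X 29 u * (X 35 t * z) =
    X 35 t * (X 29 u * X 39 (t * u)) * z := by
  rw [← mul_assoc, s35_29]
lemma s35_38' (t u : K) (z : GL chevF4.Idx K) : X 38 u * (X 35 t * z) =
    X 35 t * (X 38 u * X 44 (t * u)) * z := by
  rw [← mul_assoc, s35_38]
lemma s31_41' (t u : K) (z : GL chevF4.Idx K) : X 41 u * (X 31 t * z) =
    X 31 t * (X 41 u * X 45 (t * u)) * z := by
  rw [← mul_assoc, s31_41]
lemma s31_43' (t u : K) (z : GL chevF4.Idx K) : X 43 u * (X 31 t * z) =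
    X 31 t * (X 43 u * X 47 (t * u)) * z := by
  rw [← mul_assoc, s31_43]
lemma s40_33' (t u : K) (z : GL chevF4.Idx K) : X 33 u * (X 40 t * z) =
    X 40 t * (X 33 u * X 44 (t * u)) * z := by
  rw [← mul_assoc, s40_33]
lemma s46_24' (t u : K) (z : GL chevF4.Idx K) : X 24 u * (X 46 t * z) =
    X 46 t * (X 24 u * X 47 (t * u)) * z := by
  rw [← mul_assoc, s46_24]
lemma s39_34' (t u : K) (z : GL chevF4.Idx K) : X 34 u * (X 39 t * z) =
    X 39 t * (X 34 u * X 44 (t * u)) * z := by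
  rw [← mul_assoc, s39_34]
lemma s45_26' (t u : K) (z : GL chevF4.Idx K) : X 26 u * (X 45 t * z) =
    X 45 t * (X 26 u * X 47 (t * u)) * z := by
  rw [← mul_assoc, s45_26]
lemma s29_34' (t u : K) (z : GL chevF4.Idx K) : X 34 u * (X 29 t * z) =
    X 29 t * (X 34 u * X 38 (t * u)) * z := by
  rw [← mul_assoc, s29_34]
lemma s29_33' (t u : K) (z : GL chevF4.Idx K) : X 33 u * (X 29 t * z) =
    X 29 t * (X 33 u * X 36 (t * u)) * z := by
  rw [← mul_assoc, s29_33]
lemma s41_26' (t u : K) (z : GL chevF4.Idx K) : X 26 u * (X 41 t * z) =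
    X 41 t * (X 26 u * X 43 (t * u)) * z := by
  rw [← mul_assoc, s41_26]
lemma s41_24' (t u : K) (z : GL chevF4.Idx K) : X 24 u * (X 41 t * z) =
    X 41 t * (X 24 u * X 42 (t * u)) * z := by
  rw [← mul_assoc, s41_24]
lemma s27_25' (t u : K) (z : GL chevF4.Idx K) : X 25 u * (X 27 t * z) =
    X 27 t * (X 25 u * (X 28 (t * u) * X 30 (t ^ 2 * u))) * z := by
  rw [← mul_assoc, s27_25]
lemma s27_43' (t u : K) (z : GL chevF4.Idx K) : X 43 u * (X 27 t * z) =
    X 27 t * (X 43 u * (X 44 (t * u) * X 45 (t ^ 2 * u))) * z := by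
  rw [← mul_assoc, s27_43]
lemma s27_26' (t u : K) (z : GL chevF4.Idx K) : X 26 u * (X 27 t * z) =
    X 27 t * (X 26 u * (X 29 (t * u) * X 31 (t ^ 2 * u))) * z := by
  rw [← mul_assoc, s27_26]
lemma s25_38' (t u : K) (z : GL chevF4.Idx K) : X 38 u * (X 25 t * z) =
    X 25 t * (X 38 u * (X 39 (t * u) * X 47 (t * u ^ 2))) * z := by
  rw [← mul_assoc, s25_38]
lemma s25_34' (t u : K) (z : GL chevF4.Idx K) : X 34 u * (X 25 t * z) =
    X 25 t * (X 34 u * (X 35 (t * u) * X 41 (t * u ^ 2))) * z := by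
  rw [← mul_assoc, s25_34]
lemma s28_42' (t u : K) (z : GL chevF4.Idx K) : X 42 u * (X 28 t * z) =
    X 28 t * (X 42 u * (X 44 (t * u) * X 46 (t ^ 2 * u))) * z := by
  rw [← mul_assoc, s28_42]
lemma s28_24' (t u : K) (z : GL chevF4.Idx K) : X 24 u * (X 28 t * z) =
    X 28 t * (X 24 u * (X 29 (t * u) * X 32 (t ^ 2 * u))) * z := by
  rw [← mul_assoc, s28_24]
lemma s30_36' (t u : K) (z : GL chevF4.Idx K) : X 36 u * (X 30 t * z) =
    X 30 t * (X 36 u * (X 40 (t * u) * X 47 (t * u ^ 2))) * z := by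
  rw [← mul_assoc, s30_36]
lemma s30_33' (t u : K) (z : GL chevF4.Idx K) : X 33 u * (X 30 t * z) =
    X 30 t * (X 33 u * (X 37 (t * u) * X 41 (t * u ^ 2))) * z := by
  rw [← mul_assoc, s30_33]
lemma s37_26' (t u : K) (z : GL chevF4.Idx K) : X 26 u * (X 37 t * z) =
    X 37 t * (X 26 u * (X 39 (t * u) * X 46 (t ^ 2 * u))) * z := by
  rw [← mul_assoc, s37_26]
lemma s37_24' (t u : K) (z : GL chevF4.Idx K) : X 24 u * (X 37 t * z) =
    X 37 t * (X 24 u * (X 38 (t * u) * X 45 (t ^ 2 * u))) * z := by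
  rw [← mul_assoc, s37_24]
lemma s32_34' (t u : K) (z : GL chevF4.Idx K) : X 34 u * (X 32 t * z) =
    X 32 t * (X 34 u * (X 40 (t * u) * X 45 (t * u ^ 2))) * z := by
  rw [← mul_assoc, s32_34]
lemma s32_33' (t u : K) (z : GL chevF4.Idx K) : X 33 u * (X 32 t * z) =
    X 32 t * (X 33 u * (X 39 (t * u) * X 43 (t * u ^ 2))) * z := by
  rw [← mul_assoc, s32_33]
lemma s35_31' (t u : K) (z : GL chevF4.Idx K) : X 31 u * (X 35 t * z) =
    X 35 t * (X 31 u * (X 40 (t * u) * X 46 (t ^ 2 * u))) * z := by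
  rw [← mul_assoc, s35_31]
lemma s35_24' (t u : K) (z : GL chevF4.Idx K) : X 24 u * (X 35 t * z) =
    X 35 t * (X 24 u * (X 36 (t * u) * X 43 (t ^ 2 * u))) * z := by
  rw [← mul_assoc, s35_24]
lemma s31_33' (t u : K) (z : GL chevF4.Idx K) : X 33 u * (X 31 t * z) =
    X 31 t * (X 33 u * (X 38 (t * u) * X 42 (t * u ^ 2))) * z := by
  rw [← mul_assoc, s31_33]
lemma s29_41' (t u : K) (z : GL chevF4.Idx K) : X 41 u * (X 29 t * z) =
    X 29 t * (X 41 u * (X 44 (t * u) * X 47 (t ^ 2 * u))) * z := by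
  rw [← mul_assoc, s29_41]
lemma s34_26' (t u : K) (z : GL chevF4.Idx K) : X 26 u * (X 34 t * z) =
    X 34 t * (X 26 u * (X 36 (t * u) * X 42 (t ^ 2 * u))) * z := by
  rw [← mul_assoc, s34_26]

omit [CharP K 2] in
lemma mm (r : ℕ) (t u : K) : X r t * X r u = X r (t + u) := xG_add g₄ r t u

omit [CharP K 2] in
lemma mm' (r : ℕ) (t u : K) (z : GL chevF4.Idx K) : X r t * (X r u * z) = X r (t + u) * z := by
  rw [← mul_assoc, mm]

omit [CharP K 2] in
lemma X_zero (r : ℕ) : X r (0 : K) = 1 := xG_zero g₄ r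

lemma inv_eq (r : ℕ) (t : K) : (X r t)⁻¹ = X r t := by rw [xG_inv, CharTwo.neg_eq]

/-- collection of products into the ordering by directions -/
macro "sortX" : tactic => `(tactic|
  simp (disch := decide +kernel) only [mul_assoc, swN, swN',
    s27_35, s27_35', s27_39, s27_39', s27_36, s27_36', s27_33,
    s27_33', s25_31, s25_31', s25_45, s25_45', s25_42,
    s25_42', s25_24, s25_24', s28_38, s28_38', s28_34,
    s28_34', s28_36, s28_36', s28_33, s28_33', s30_43,
    s30_43', s30_26, s30_26', s30_42, s30_42', s30_24,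
    s30_24', s37_29, s37_29', s37_36, s37_36', s32_41,
    s32_41', s32_42, s32_42', s35_29, s35_29', s35_38,
    s35_38', s31_41, s31_41', s31_43, s31_43', s40_33,
    s40_33', s46_24, s46_24', s39_34, s39_34', s45_26,
    s45_26', s29_34, s29_34', s29_33, s29_33', s41_26,
    s41_26', s41_24, s41_24', s27_25, s27_25', s27_43,
    s27_43', s27_26, s27_26', s25_38, s25_38', s25_34,
    s25_34', s28_42, s28_42', s28_24, s28_24', s30_36,
    s30_36', s30_33, s30_33', s37_26, s37_26', s37_24,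
    s37_24', s32_34, s32_34', s32_33, s32_33', s35_31,
    s35_31', s35_24, s35_24', s31_33, s31_33', s29_41,
    s29_41', s34_26, s34_26',
    mm, mm', one_mul, mul_one])

/-- two values for one pair of roots -/
abbrev T2 (K : Type*) := K × K

/-- products in the ordering by directions -/
noncomputable def Z (a0 b0 c1 a2 b2 c3 a4 b4 c5 a6 b6 c7 : T2 K) : GL chevF4.Idx K :=
  X 27 a0.1 * (X 25 a0.2 * (X 28 b0.1 * (X 30 b0.2 * (X 37 c1.1 * (X 32 c1.2 *
    (X 35 a2.1 * (X 31 a2.2 * (X 40 b2.1 * (X 46 b2.2 * (X 39 c3.1 * (X 45 c3.2 *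
      (X 29 a4.1 * (X 41 a4.2 * (X 44 b4.1 * (X 47 b4.2 * (X 38 c5.1 * (X 43 c5.2 *
        (X 34 a6.1 * (X 26 a6.2 * (X 36 b6.1 * (X 42 b6.2 * (X 33 c7.1 * X 24 c7.2))))))))))))))))))))))

omit [CharP K 2] in
lemma posRoots_eq : chevF4.posRoots = (List.range 24).map fun i => i + 24 := by
  decide +kernel

/-- every element of `U` has coordinates -/
lemma exists_Z {y : GL chevF4.Idx K} (hy : y ∈ chevF4.posUnipotent K) :
    ∃ a0 b0 c1 a2 b2 c3 a4 b4 c5 a6 b6 c7, y = Z a0 b0 c1 a2 b2 c3 a4 b4 c5 a6 b6 c7 := by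
  rw [← UL_posRoots g₄] at hy
  obtain ⟨T, rfl⟩ := exists_pw stdF4 upList_posRoots hy
  simp only [pw, posRoots_eq, List.range_succ_eq_map, List.range_zero, List.map_cons, List.map_nil,
    List.prod_cons, List.prod_nil, Nat.reduceAdd, Nat.reduceSucc]
  sortX
  exact ⟨(_, _), (_, _), (_, _), (_, _), (_, _), (_, _), (_, _), (_, _), (_, _), (_, _), (_, _), (_, _), rfl⟩

end CfsgLib.Chev.F42Invol
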