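/-
The fixed elements of the unipotent subgroup of twisted F4 in coordinates.
-/
import Cfsg.Agent.Lib.Chev.F42Invol.Basic

set_option autoImplicit false
set_option maxRecDepth 100000
set_option maxHeartbeats 1000000

namespace CfsgLib.Chev.F42Invol

open Cfsg.Lie Matrix CfsgLib.Chev

variable {K : Type*} [Field K] [CharP K 2] [Fintype K]

local notation "g₄" => stdF4.good

omit [CharP K 2] [Fintype K] in
lemma Z_mem (a0 b0 c1 a2 b2 c3 a4 b4 c5 a6 b6 c7 : T2 K) : Z a0 b0 c1 a2 b2 c3 a4 b4 c5 a6 b6 c7 ∈ chevF4.posUnipotent K := by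
  have h : ∀ r ∈ ord, ∀ t : K, X r t ∈ chevF4.posUnipotent K := fun r hr t =>
    xG_mem_posUnipotent g₄ (posRoots_mem.1 (by
      rw [posRoots_eq]; revert r; decide)) t
  unfold Z
  repeat' apply mul_mem
  all_goals exact h _ (by decide) _

/-- the coordinates are unique -/
lemma Z_inj {a0 b0 c1 a2 b2 c3 a4 b4 c5 a6 b6 c7 a0' b0' c1' a2' b2' c3' a4' b4' c5' a6' b6' c7' : T2 K}
    (h : Z a0 b0 c1 a2 b2 c3 a4 b4 c5 a6 b6 c7 = Z a0' b0' c1' a2' b2' c3' a4' b4' c5' a6' b6' c7') :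
    a0 = a0' ∧ b0 = b0' ∧ c1 = c1' ∧ a2 = a2' ∧ b2 = b2' ∧ c3 = c3' ∧ a4 = a4' ∧ b4 = b4' ∧ c5 = c5' ∧ a6 = a6' ∧ b6 = b6' ∧ c7 = c7' := by
  classical
  let m : T2 K × T2 K × T2 K × T2 K × T2 K × T2 K × T2 K × T2 K × T2 K × T2 K × T2 K × T2 K →
      ↥(chevF4.posUnipotent K) := fun ⟨a0, b0, c1, a2, b2, c3, a4, b4, c5, a6, b6, c7⟩ => ⟨Z a0 b0 c1 a2 b2 c3 a4 b4 c5 a6 b6 c7, Z_mem a0 b0 c1 a2 b2 c3 a4 b4 c5 a6 b6 c7⟩
  haveI : Finite (GL chevF4.Idx K) := finite_GL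
  have hb : Function.Bijective m := by
    rw [Nat.bijective_iff_surjective_and_card]
    refine ⟨fun y => ?_, ?_⟩
    · obtain ⟨a0, b0, c1, a2, b2, c3, a4, b4, c5, a6, b6, c7, hy⟩ := exists_Z y.2
      exact ⟨(a0, b0, c1, a2, b2, c3, a4, b4, c5, a6, b6, c7), Subtype.ext hy.symm⟩
    · rw [card_posUnipotent stdF4, show chevF4.nroots / 2 = 24 from rfl]
      simp only [T2, Nat.card_eq_fintype_card, Fintype.card_prod]
      ring
  have := hb.1 (a₁ := (a0, b0, c1, a2, b2, c3, a4, b4, c5, a6, b6, c7)) (a₂ := (a0', b0', c1', a2', b2', c3', a4', b4', c5', a6', b6', c7')) (Subtype.ext h)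
  simpa using this

omit [CharP K 2] in
/-- the coordinates as one tuple -/
lemma one_Z : (1 : GL chevF4.Idx K) = Z (0, 0) (0, 0) (0, 0) (0, 0) (0, 0) (0, 0) (0, 0) (0, 0) (0, 0) (0, 0) (0, 0) (0, 0) := by
  simp [Z, X_zero]

/-- parameters of a fixed element -/
@[ext]
structure Co (K : Type*) [Zero K] where
  a0 : K := 0
  b0 : K := 0
  c1 : K := 0
  a2 : K := 0
  b2 : K := 0
  c3 : K := 0
  a4 : K := 0
  b4 : K := 0
  c5 : K := 0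
  a6 : K := 0
  b6 : K := 0
  c7 : K := 0

variable (σ : K →+* K)

/-- values on a pair -/
def pv (c : K) : T2 K := (σ c, c)

/-- values on a central pair of an orbit of type B2 -/
def zb (a b : K) : T2 K := (σ a * a + σ b, b)

/-- fixed products -/
noncomputable def P (q : Co K) : GL chevF4.Idx K :=
  Z (pv σ q.a0) (zb σ q.a0 q.b0) (pv σ q.c1) (pv σ q.a2) (zb σ q.a2 q.b2) (pv σ q.c3) (pv σ q.a4)
    (zb σ q.a4 q.b4) (pv σ q.c5) (pv σ q.a6) (zb σ q.a6 q.b6) (pv σ q.c7)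

variable {σ}

omit [Fintype K] in
lemma maps_Z (a0 b0 c1 a2 b2 c3 a4 b4 c5 a6 b6 c7 : T2 K) : (F42.tw σ).Maps (Z a0 b0 c1 a2 b2 c3 a4 b4 c5 a6 b6 c7)
    (Z (σ a0.2, σ a0.1 ^ 2)
      (σ a0.2 * σ a0.1 ^ 2 + σ b0.2, σ a0.2 ^ 2 * σ a0.1 ^ 2 + σ b0.1 ^ 2)
      (σ c1.2, σ c1.1 ^ 2)
      (σ a2.2, σ a2.1 ^ 2)
      (σ a2.2 * σ a2.1 ^ 2 + σ b2.2, σ a2.2 ^ 2 * σ a2.1 ^ 2 + σ b2.1 ^ 2)
      (σ c3.2, σ c3.1 ^ 2)
      (σ a4.2, σ a4.1 ^ 2)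
      (σ a4.2 * σ a4.1 ^ 2 + σ b4.2, σ a4.2 ^ 2 * σ a4.1 ^ 2 + σ b4.1 ^ 2)
      (σ c5.2, σ c5.1 ^ 2)
      (σ a6.2, σ a6.1 ^ 2)
      (σ a6.2 * σ a6.1 ^ 2 + σ b6.2, σ a6.2 ^ 2 * σ a6.1 ^ 2 + σ b6.1 ^ 2)
      (σ c7.2, σ c7.1 ^ 2)) := by
  have hs : ∀ r r', (r < chevF4.nroots ∧ foldF42.r r = r' ∧ isoF4.l r = 2) → ∀ t : K,
      (F42.tw σ).Maps (X r t) (X r' (σ t ^ 2)) := fun r r' h t => by
    have := (F42.tw σ).maps_xG h.1 t
    rwa [h.2.1, F42.phi_eq h.2.2] at this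
  have hl : ∀ r r', (r < chevF4.nroots ∧ foldF42.r r = r' ∧ isoF4.l r = 1) → ∀ t : K,
      (F42.tw σ).Maps (X r t) (X r' (σ t)) := fun r r' h t => by
    have := (F42.tw σ).maps_xG h.1 t
    rwa [h.2.1, F42.phi_eq h.2.2, pow_one] at this
  have hh := Twist.Maps.mul _ (hs 27 25 (by decide +kernel) a0.1)
    (Twist.Maps.mul _ (hl 25 27 (by decide +kernel) a0.2)
    (Twist.Maps.mul _ (hs 28 30 (by decide +kernel) b0.1)
    (Twist.Maps.mul _ (hl 30 28 (by decide +kernel) b0.2)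
    (Twist.Maps.mul _ (hs 37 32 (by decide +kernel) c1.1)
    (Twist.Maps.mul _ (hl 32 37 (by decide +kernel) c1.2)
    (Twist.Maps.mul _ (hs 35 31 (by decide +kernel) a2.1)
    (Twist.Maps.mul _ (hl 31 35 (by decide +kernel) a2.2)
    (Twist.Maps.mul _ (hs 40 46 (by decide +kernel) b2.1)
    (Twist.Maps.mul _ (hl 46 40 (by decide +kernel) b2.2)
    (Twist.Maps.mul _ (hs 39 45 (by decide +kernel) c3.1)
    (Twist.Maps.mul _ (hl 45 39 (by decide +kernel) c3.2)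
    (Twist.Maps.mul _ (hs 29 41 (by decide +kernel) a4.1)
    (Twist.Maps.mul _ (hl 41 29 (by decide +kernel) a4.2)
    (Twist.Maps.mul _ (hs 44 47 (by decide +kernel) b4.1)
    (Twist.Maps.mul _ (hl 47 44 (by decide +kernel) b4.2)
    (Twist.Maps.mul _ (hs 38 43 (by decide +kernel) c5.1)
    (Twist.Maps.mul _ (hl 43 38 (by decide +kernel) c5.2)
    (Twist.Maps.mul _ (hs 34 26 (by decide +kernel) a6.1)
    (Twist.Maps.mul _ (hl 26 34 (by decide +kernel) a6.2)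
    (Twist.Maps.mul _ (hs 36 42 (by decide +kernel) b6.1)
    (Twist.Maps.mul _ (hl 42 36 (by decide +kernel) b6.2)
    (Twist.Maps.mul _ (hs 33 24 (by decide +kernel) c7.1)
    (hl 24 33 (by decide +kernel) c7.2)))))))))))))))))))))))
  unfold Z at hh ⊢
  dsimp only
  convert hh using 1
  symm
  sortX

variable (hi : F42.Inv2 σ)

include hi in
omit [Fintype K] in
lemma P_fix (q : Co K) : P σ q ∈ (F42.tw σ).fix := by
  have h2 := CharTwo.two_eq_zero (R := K)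
  have e : ∀ a b : K, (σ a * σ (σ a) ^ 2 + σ b, σ a ^ 2 * σ (σ a) ^ 2 + σ (σ a * a + σ b) ^ 2) = zb σ a b := by
    intro a b
    refine Prod.ext ?_ ?_
    · show _ = σ a * a + σ b
      rw [hi]
    · show _ = b
      rw [map_add, map_mul, hi a]
      linear_combination (σ a ^ 2) * hi a + hi b + (σ a ^ 2 * a + σ (σ a) * σ a * σ (σ b)) * h2
  have e1 : ∀ c : K, (σ c, σ (σ c) ^ 2) = pv σ c := fun c => Prod.ext rfl (hi c)
  have h := maps_Z (σ := σ) (pv σ q.a0) (zb σ q.a0 q.b0) (pv σ q.c1) (pv σ q.a2) (zb σ q.a2 q.b2) (pv σ q.c3) (pv σ q.a4) (zb σ q.a4 q.b4) (pv σ q.c5) (pv σ q.a6) (zb σ q.a6 q.b6) (pv σ q.c7)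
  simp only [pv, zb, e] at h
  simp only [e1] at h
  rw [Twist.mem_fix]
  unfold P
  convert h using 2 <;> rfl

include hi in
/-- fixed elements of `U` -/
lemma exists_P {y : GL chevF4.Idx K} (hy : y ∈ chevF4.posUnipotent K) (hf : y ∈ (F42.tw σ).fix) :
    ∃ q : Co K, y = P σ q := by
  obtain ⟨a0, b0, c1, a2, b2, c3, a4, b4, c5, a6, b6, c7, rfl⟩ := exists_Z hy
  obtain ⟨ha0, hb0, hc1, ha2, hb2, hc3, ha4, hb4, hc5, ha6, hb6, hc7⟩ := Z_inj (Twist.Maps.fun_eq _ (maps_Z a0 b0 c1 a2 b2 c3 a4 b4 c5 a6 b6 c7) hf)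
  have ep : ∀ v : T2 K, (σ v.2, σ v.1 ^ 2) = v → v = pv σ v.2 := fun v h =>
    Prod.ext (congrArg Prod.fst h).symm rfl
  have ez : ∀ v w : T2 K, (σ v.2, σ v.1 ^ 2) = v → (σ v.2 * σ v.1 ^ 2 + σ w.2, σ v.2 ^ 2 * σ v.1 ^ 2 + σ w.1 ^ 2) = w →
      w = zb σ v.2 w.2 := fun v w h h' => by
    have h1 := (congrArg Prod.fst h').symm
    have h0 : σ v.1 ^ 2 = v.2 := congrArg Prod.snd h
    simp only [h0] at h1
    exact Prod.ext h1 rfl
  refine ⟨⟨a0.2, b0.2, c1.2, a2.2, b2.2, c3.2, a4.2, b4.2, c5.2, a6.2, b6.2, c7.2⟩, ?_⟩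
  unfold P
  dsimp only
  rw [← ep a0 ha0, ← ep c1 hc1, ← ep a2 ha2, ← ep c3 hc3, ← ep a4 ha4, ← ep c5 hc5, ← ep a6 ha6,
    ← ep c7 hc7, ← ez a0 b0 ha0 hb0, ← ez a2 b2 ha2 hb2, ← ez a4 b4 ha4 hb4, ← ez a6 b6 ha6 hb6]

omit [CharP K 2] [Fintype K] in
lemma P_mem (q : Co K) : P σ q ∈ chevF4.posUnipotent K := Z_mem _ _ _ _ _ _ _ _ _ _ _ _

lemma P_inj {q q' : Co K} (h : P σ q = P σ q') : q = q' := by
  obtain ⟨ha0, hb0, hc1, ha2, hb2, hc3, ha4, hb4, hc5, ha6, hb6, hc7⟩ := Z_inj h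
  exact Co.ext (congrArg Prod.snd ha0) (congrArg Prod.snd hb0) (congrArg Prod.snd hc1) (congrArg Prod.snd ha2) (congrArg Prod.snd hb2) (congrArg Prod.snd hc3) (congrArg Prod.snd ha4) (congrArg Prod.snd hb4) (congrArg Prod.snd hc5) (congrArg Prod.snd ha6) (congrArg Prod.snd hb6) (congrArg Prod.snd hc7)

end CfsgLib.Chev.F42Invol
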