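/-
Tools for conjugating fixed unipotent elements of twisted F4.
-/
import Cfsg.Agent.Lib.Chev.F42Invol.Coords

set_option autoImplicit false
set_option maxRecDepth 100000
set_option maxHeartbeats 1000000

namespace CfsgLib.Chev.F42Invol

open Cfsg.Lie Matrix CfsgLib.Chev

variable {K : Type*} [Field K] [CharP K 2] [Fintype K] {σ : K →+* K}

local notation "g₄" => stdF4.good

omit [Fintype K] in
lemma conj_nJ {j r r' : ℕ} (h : (∀ i ∈ foldF42.w j, i < chevF4.rank) ∧ r < chevF4.nroots)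
    (e : wf auxF4 (foldF42.w j) r = r' ∧
      (sgnW auxF4 (foldF42.w j) r = 1 ∨ sgnW auxF4 (foldF42.w j) r = -1)) (t : K) :
    MulAut.conj ((F42.tw σ).nJ j) (X r t) = X r' t :=
  F42.conj_nW h.1 h.2 e.1 e.2 t

/-- coordinates of long roots are determined by an ordered product -/
lemma flat_inj {a0s a0l b0s b0l c1s c1l a2s a2l b2s b2l c3s c3l a4s a4l b4s b4l c5s c5l a6s a6l b6s b6l c7s c7l
    a0s' a0l' b0s' b0l' c1s' c1l' a2s' a2l' b2s' b2l' c3s' c3l' a4s' a4l' b4s' b4l' c5s' c5l'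
    a6s' a6l' b6s' b6l' c7s' c7l' : K}
    (h : 
    X 27 a0s * (X 25 a0l * (X 28 b0s * (X 30 b0l * (X 37 c1s * (X 32 c1l * (X 35 a2s * (X 31 a2l
    * (X 40 b2s * (X 46 b2l * (X 39 c3s * (X 45 c3l * (X 29 a4s * (X 41 a4l * (X 44 b4s * (X 47
    b4l * (X 38 c5s * (X 43 c5l * (X 34 a6s * (X 26 a6l * (X 36 b6s * (X 42 b6l * (X 33 c7s * (X
    24 c7l))))))))))))))))))))))) =
    X 27 a0s' * (X 25 a0l' * (X 28 b0s' * (X 30 b0l' * (X 37 c1s' * (X 32 c1l' * (X 35 a2s' * (X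
    31 a2l' * (X 40 b2s' * (X 46 b2l' * (X 39 c3s' * (X 45 c3l' * (X 29 a4s' * (X 41 a4l' * (X
    44 b4s' * (X 47 b4l' * (X 38 c5s' * (X 43 c5l' * (X 34 a6s' * (X 26 a6l' * (X 36 b6s' * (X
    42 b6l' * (X 33 c7s' * (X 24 c7l')))))))))))))))))))))))) :
    a0l = a0l' ∧ b0l = b0l' ∧ c1l = c1l' ∧ a2l = a2l' ∧ b2l = b2l' ∧ c3l = c3l' ∧ a4l = a4l' ∧
    b4l = b4l' ∧ c5l = c5l' ∧ a6l = a6l' ∧ b6l = b6l' ∧ c7l = c7l' := by
  obtain ⟨ha0, hb0, hc1, ha2, hb2, hc3, ha4, hb4, hc5, ha6, hb6, hc7⟩ := Z_inj (a0 := (a0s, a0l)) (b0 := (b0s, b0l)) (c1 := (c1s, c1l)) (a2 := (a2s, a2l)) (b2 := (b2s, b2l)) (c3 := (c3s, c3l)) (a4 := (a4s, a4l)) (b4 := (b4s, b4l)) (c5 := (c5s, c5l)) (a6 := (a6s, a6l)) (b6 := (b6s, b6l)) (c7 := (c7s, c7l))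
    (a0' := (a0s', a0l')) (b0' := (b0s', b0l')) (c1' := (c1s', c1l')) (a2' := (a2s', a2l')) (b2' := (b2s', b2l')) (c3' := (c3s', c3l')) (a4' := (a4s', a4l')) (b4' := (b4s', b4l')) (c5' := (c5s', c5l')) (a6' := (a6s', a6l')) (b6' := (b6s', b6l')) (c7' := (c7s', c7l')) h
  exact ⟨congrArg Prod.snd ha0, congrArg Prod.snd hb0, congrArg Prod.snd hc1, congrArg Prod.snd ha2, congrArg Prod.snd hb2, congrArg Prod.snd hc3, congrArg Prod.snd ha4, congrArg Prod.snd hb4, congrArg Prod.snd hc5, congrArg Prod.snd ha6, congrArg Prod.snd hb6, congrArg Prod.snd hc7⟩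

omit [Fintype K] [CharP K 2] in
lemma el_a0 (x : K) : P σ { a0 := x } = X 27 (σ x) * (X 25 x * X 28 (σ x * x)) := by
  simp [P, pv, zb, Z, X_zero]

omit [Fintype K] [CharP K 2] in
lemma el_b0 (x : K) : P σ { b0 := x } = X 28 (σ x) * X 30 x := by
  simp [P, pv, zb, Z, X_zero]

omit [Fintype K] [CharP K 2] in
lemma el_c1 (x : K) : P σ { c1 := x } = X 37 (σ x) * X 32 x := by
  simp [P, pv, zb, Z, X_zero]

omit [Fintype K] [CharP K 2] in
lemma el_a2 (x : K) : P σ { a2 := x } = X 35 (σ x) * (X 31 x * X 40 (σ x * x)) := by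
  simp [P, pv, zb, Z, X_zero]

omit [Fintype K] [CharP K 2] in
lemma el_b2 (x : K) : P σ { b2 := x } = X 40 (σ x) * X 46 x := by
  simp [P, pv, zb, Z, X_zero]

omit [Fintype K] [CharP K 2] in
lemma el_c3 (x : K) : P σ { c3 := x } = X 39 (σ x) * X 45 x := by
  simp [P, pv, zb, Z, X_zero]

omit [Fintype K] [CharP K 2] in
lemma el_a4 (x : K) : P σ { a4 := x } = X 29 (σ x) * (X 41 x * X 44 (σ x * x)) := by
  simp [P, pv, zb, Z, X_zero]

omit [Fintype K] [CharP K 2] in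
lemma el_b4 (x : K) : P σ { b4 := x } = X 44 (σ x) * X 47 x := by
  simp [P, pv, zb, Z, X_zero]

omit [Fintype K] [CharP K 2] in
lemma el_c5 (x : K) : P σ { c5 := x } = X 38 (σ x) * X 43 x := by
  simp [P, pv, zb, Z, X_zero]

omit [Fintype K] [CharP K 2] in
lemma el_a6 (x : K) : P σ { a6 := x } = X 34 (σ x) * (X 26 x * X 36 (σ x * x)) := by
  simp [P, pv, zb, Z, X_zero]

omit [Fintype K] [CharP K 2] in
lemma el_b6 (x : K) : P σ { b6 := x } = X 36 (σ x) * X 42 x := by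
  simp [P, pv, zb, Z, X_zero]

omit [Fintype K] [CharP K 2] in
lemma el_c7 (x : K) : P σ { c7 := x } = X 33 (σ x) * X 24 x := by
  simp [P, pv, zb, Z, X_zero]

omit [Fintype K] in
lemma n0_27 (t : K) : MulAut.conj ((F42.tw σ).nJ 0) (X 27 t) = X 34 t :=
  conj_nJ (by decide +kernel) (by decide +kernel) t
omit [Fintype K] in
lemma n0_25 (t : K) : MulAut.conj ((F42.tw σ).nJ 0) (X 25 t) = X 26 t :=
  conj_nJ (by decide +kernel) (by decide +kernel) t
omit [Fintype K] in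
lemma n0_28 (t : K) : MulAut.conj ((F42.tw σ).nJ 0) (X 28 t) = X 36 t :=
  conj_nJ (by decide +kernel) (by decide +kernel) t
omit [Fintype K] in
lemma n0_30 (t : K) : MulAut.conj ((F42.tw σ).nJ 0) (X 30 t) = X 42 t :=
  conj_nJ (by decide +kernel) (by decide +kernel) t
omit [Fintype K] in
lemma n0_37 (t : K) : MulAut.conj ((F42.tw σ).nJ 0) (X 37 t) = X 38 t :=
  conj_nJ (by decide +kernel) (by decide +kernel) t
omit [Fintype K] in
lemma n0_32 (t : K) : MulAut.conj ((F42.tw σ).nJ 0) (X 32 t) = X 43 t :=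
  conj_nJ (by decide +kernel) (by decide +kernel) t
omit [Fintype K] in
lemma n0_35 (t : K) : MulAut.conj ((F42.tw σ).nJ 0) (X 35 t) = X 29 t :=
  conj_nJ (by decide +kernel) (by decide +kernel) t
omit [Fintype K] in
lemma n0_31 (t : K) : MulAut.conj ((F42.tw σ).nJ 0) (X 31 t) = X 41 t :=
  conj_nJ (by decide +kernel) (by decide +kernel) t
omit [Fintype K] in
lemma n0_40 (t : K) : MulAut.conj ((F42.tw σ).nJ 0) (X 40 t) = X 44 t :=
  conj_nJ (by decide +kernel) (by decide +kernel) t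
omit [Fintype K] in
lemma n0_46 (t : K) : MulAut.conj ((F42.tw σ).nJ 0) (X 46 t) = X 47 t :=
  conj_nJ (by decide +kernel) (by decide +kernel) t
omit [Fintype K] in
lemma n0_39 (t : K) : MulAut.conj ((F42.tw σ).nJ 0) (X 39 t) = X 39 t :=
  conj_nJ (by decide +kernel) (by decide +kernel) t
omit [Fintype K] in
lemma n0_45 (t : K) : MulAut.conj ((F42.tw σ).nJ 0) (X 45 t) = X 45 t :=
  conj_nJ (by decide +kernel) (by decide +kernel) t
omit [Fintype K] in
lemma n0_29 (t : K) : MulAut.conj ((F42.tw σ).nJ 0) (X 29 t) = X 35 t :=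
  conj_nJ (by decide +kernel) (by decide +kernel) t
omit [Fintype K] in
lemma n0_41 (t : K) : MulAut.conj ((F42.tw σ).nJ 0) (X 41 t) = X 31 t :=
  conj_nJ (by decide +kernel) (by decide +kernel) t
omit [Fintype K] in
lemma n0_44 (t : K) : MulAut.conj ((F42.tw σ).nJ 0) (X 44 t) = X 40 t :=
  conj_nJ (by decide +kernel) (by decide +kernel) t
omit [Fintype K] in
lemma n0_47 (t : K) : MulAut.conj ((F42.tw σ).nJ 0) (X 47 t) = X 46 t :=
  conj_nJ (by decide +kernel) (by decide +kernel) t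
omit [Fintype K] in
lemma n0_38 (t : K) : MulAut.conj ((F42.tw σ).nJ 0) (X 38 t) = X 37 t :=
  conj_nJ (by decide +kernel) (by decide +kernel) t
omit [Fintype K] in
lemma n0_43 (t : K) : MulAut.conj ((F42.tw σ).nJ 0) (X 43 t) = X 32 t :=
  conj_nJ (by decide +kernel) (by decide +kernel) t
omit [Fintype K] in
lemma n0_34 (t : K) : MulAut.conj ((F42.tw σ).nJ 0) (X 34 t) = X 27 t :=
  conj_nJ (by decide +kernel) (by decide +kernel) t
omit [Fintype K] in
lemma n0_26 (t : K) : MulAut.conj ((F42.tw σ).nJ 0) (X 26 t) = X 25 t :=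
  conj_nJ (by decide +kernel) (by decide +kernel) t
omit [Fintype K] in
lemma n0_36 (t : K) : MulAut.conj ((F42.tw σ).nJ 0) (X 36 t) = X 28 t :=
  conj_nJ (by decide +kernel) (by decide +kernel) t
omit [Fintype K] in
lemma n0_42 (t : K) : MulAut.conj ((F42.tw σ).nJ 0) (X 42 t) = X 30 t :=
  conj_nJ (by decide +kernel) (by decide +kernel) t

omit [Fintype K] in
lemma n1_37 (t : K) : MulAut.conj ((F42.tw σ).nJ 1) (X 37 t) = X 33 t :=
  conj_nJ (by decide +kernel) (by decide +kernel) t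
omit [Fintype K] in
lemma n1_32 (t : K) : MulAut.conj ((F42.tw σ).nJ 1) (X 32 t) = X 24 t :=
  conj_nJ (by decide +kernel) (by decide +kernel) t
omit [Fintype K] in
lemma n1_35 (t : K) : MulAut.conj ((F42.tw σ).nJ 1) (X 35 t) = X 34 t :=
  conj_nJ (by decide +kernel) (by decide +kernel) t
omit [Fintype K] in
lemma n1_31 (t : K) : MulAut.conj ((F42.tw σ).nJ 1) (X 31 t) = X 26 t :=
  conj_nJ (by decide +kernel) (by decide +kernel) t
omit [Fintype K] in
lemma n1_40 (t : K) : MulAut.conj ((F42.tw σ).nJ 1) (X 40 t) = X 36 t :=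
  conj_nJ (by decide +kernel) (by decide +kernel) t
omit [Fintype K] in
lemma n1_46 (t : K) : MulAut.conj ((F42.tw σ).nJ 1) (X 46 t) = X 42 t :=
  conj_nJ (by decide +kernel) (by decide +kernel) t
omit [Fintype K] in
lemma n1_39 (t : K) : MulAut.conj ((F42.tw σ).nJ 1) (X 39 t) = X 38 t :=
  conj_nJ (by decide +kernel) (by decide +kernel) t
omit [Fintype K] in
lemma n1_45 (t : K) : MulAut.conj ((F42.tw σ).nJ 1) (X 45 t) = X 43 t :=
  conj_nJ (by decide +kernel) (by decide +kernel) t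
omit [Fintype K] in
lemma n1_29 (t : K) : MulAut.conj ((F42.tw σ).nJ 1) (X 29 t) = X 29 t :=
  conj_nJ (by decide +kernel) (by decide +kernel) t
omit [Fintype K] in
lemma n1_41 (t : K) : MulAut.conj ((F42.tw σ).nJ 1) (X 41 t) = X 41 t :=
  conj_nJ (by decide +kernel) (by decide +kernel) t
omit [Fintype K] in
lemma n1_44 (t : K) : MulAut.conj ((F42.tw σ).nJ 1) (X 44 t) = X 44 t :=
  conj_nJ (by decide +kernel) (by decide +kernel) t
omit [Fintype K] in
lemma n1_47 (t : K) : MulAut.conj ((F42.tw σ).nJ 1) (X 47 t) = X 47 t :=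
  conj_nJ (by decide +kernel) (by decide +kernel) t
omit [Fintype K] in
lemma n1_38 (t : K) : MulAut.conj ((F42.tw σ).nJ 1) (X 38 t) = X 39 t :=
  conj_nJ (by decide +kernel) (by decide +kernel) t
omit [Fintype K] in
lemma n1_43 (t : K) : MulAut.conj ((F42.tw σ).nJ 1) (X 43 t) = X 45 t :=
  conj_nJ (by decide +kernel) (by decide +kernel) t
omit [Fintype K] in
lemma n1_34 (t : K) : MulAut.conj ((F42.tw σ).nJ 1) (X 34 t) = X 35 t :=
  conj_nJ (by decide +kernel) (by decide +kernel) t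
omit [Fintype K] in
lemma n1_26 (t : K) : MulAut.conj ((F42.tw σ).nJ 1) (X 26 t) = X 31 t :=
  conj_nJ (by decide +kernel) (by decide +kernel) t
omit [Fintype K] in
lemma n1_36 (t : K) : MulAut.conj ((F42.tw σ).nJ 1) (X 36 t) = X 40 t :=
  conj_nJ (by decide +kernel) (by decide +kernel) t
omit [Fintype K] in
lemma n1_42 (t : K) : MulAut.conj ((F42.tw σ).nJ 1) (X 42 t) = X 46 t :=
  conj_nJ (by decide +kernel) (by decide +kernel) t
omit [Fintype K] in
lemma n1_33 (t : K) : MulAut.conj ((F42.tw σ).nJ 1) (X 33 t) = X 37 t :=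
  conj_nJ (by decide +kernel) (by decide +kernel) t
omit [Fintype K] in
lemma n1_24 (t : K) : MulAut.conj ((F42.tw σ).nJ 1) (X 24 t) = X 32 t :=
  conj_nJ (by decide +kernel) (by decide +kernel) t

/-- conjugacy inside the fixed group -/
def Cj (σ : K →+* K) (x y : GL chevF4.Idx K) : Prop := ∃ g ∈ (F42.tw σ).fix, g * x * g⁻¹ = y

omit [Fintype K] in
lemma Cj.trans {x y z : GL chevF4.Idx K} (h : Cj σ x y) (h' : Cj σ y z) : Cj σ x z := by
  obtain ⟨g, hg, rfl⟩ := h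
  obtain ⟨k, hk, rfl⟩ := h'
  exact ⟨k * g, mul_mem hk hg, by group⟩

variable (hi : F42.Inv2 σ)

include hi in
/-- conjugating by an element of the fixed unipotent subgroup -/
lemma step {q : Co K} (hsq : P σ q * P σ q = 1) (g : Co K) :
    ∃ q' : Co K, P σ q' * P σ q' = 1 ∧ Cj σ (P σ q) (P σ q') ∧ P σ g * P σ q * (P σ g)⁻¹ = P σ q' := by
  have hU : P σ g * P σ q * (P σ g)⁻¹ ∈ chevF4.posUnipotent K :=
    mul_mem (mul_mem (P_mem g) (P_mem q)) (inv_mem (P_mem g))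
  have hF : P σ g * P σ q * (P σ g)⁻¹ ∈ (F42.tw σ).fix :=
    mul_mem (mul_mem (P_fix hi g) (P_fix hi q)) (inv_mem (P_fix hi g))
  obtain ⟨q', e⟩ := exists_P hi hU hF
  refine ⟨q', ?_, ⟨_, P_fix hi g, e⟩, e⟩
  rw [← e, conj_mul, hsq, mul_one, mul_inv_cancel]

include hi in
/-- conjugating by a monomial element keeping the support positive -/
lemma weyl {q : Co K} (hsq : P σ q * P σ q = 1) {j : ℕ} (hj : j < foldF42.num)
    (hU : MulAut.conj ((F42.tw σ).nJ j) (P σ q) ∈ chevF4.posUnipotent K) :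
    ∃ q' : Co K, P σ q' * P σ q' = 1 ∧ Cj σ (P σ q) (P σ q') ∧
      MulAut.conj ((F42.tw σ).nJ j) (P σ q) = P σ q' := by
  have hn := (F42.tw σ).nJ_fix hj
  rw [MulAut.conj_apply] at hU ⊢
  obtain ⟨q', e⟩ := exists_P hi hU (mul_mem (mul_mem hn (P_fix hi q)) (inv_mem hn))
  refine ⟨q', ?_, ⟨_, hn, e⟩, e⟩
  rw [← e, conj_mul, hsq, mul_one, mul_inv_cancel]

omit [Fintype K] [CharP K 2] in
lemma mem_of_forall {y : GL chevF4.Idx K} {L : List (ℕ × K)} (e : y = (L.map fun p => X p.1 p.2).prod)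
    (h : ∀ p ∈ L, chevF4.IsPosRoot p.1) : y ∈ chevF4.posUnipotent K := by
  rw [e]
  exact list_prod_mem fun z hz => by
    obtain ⟨p, hp, rfl⟩ := List.mem_map.1 hz
    exact xG_mem_posUnipotent g₄ (h p hp) p.2

/-- zero simplification of coordinate equations -/
macro "zeros" "at" h:ident : tactic => `(tactic|
  simp only [map_zero, mul_zero, zero_mul, add_zero, zero_add, ne_eq, OfNat.ofNat_ne_zero,
    not_false_eq_true, zero_pow, CharTwo.add_self_eq_zero] at $h:ident)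

end CfsgLib.Chev.F42Invol
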