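/-
Involutions of twisted F4: reduction to two representatives.
-/
import Cfsg.Agent.Lib.Chev.F42Invol.Tools

set_option autoImplicit false
set_option maxRecDepth 100000
set_option maxHeartbeats 2000000
set_option linter.unusedSimpArgs false

namespace CfsgLib.Chev.F42Invol

open Cfsg.Lie Matrix CfsgLib.Chev

variable {K : Type*} [Field K] [CharP K 2] [Fintype K] {σ : K →+* K}

local notation "g₄" => stdF4.good

/-- conjugate to one of the two representatives -/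
def Reach (σ : K →+* K) (y : GL chevF4.Idx K) : Prop :=
  Cj σ y (P σ { b0 := 1 }) ∨ Cj σ y (P σ { c7 := 1 })

omit [Fintype K] in
lemma Reach.of_cj {x y : GL chevF4.Idx K} (h : Cj σ x y) : Reach σ y → Reach σ x :=
  Or.imp h.trans h.trans

/-- reading long coordinates off an equation of products -/
macro "coordsX" h:ident : tactic => `(tactic| (
  unfold P pv zb Z at $h:ident
  revert $h:ident
  sortX
  intro $h:ident
  replace $h:ident := flat_inj $h:ident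
  zeros at $h:ident))

lemma sq_eqs {q : Co K} (h : P σ q * P σ q = 1) : q.a0 = 0 := by
  obtain ⟨a0, b0, c1, a2, b2, c3, a4, b4, c5, a6, b6, c7⟩ := q
  rw [one_Z] at h
  coordsX h
  obtain ⟨-, hb, -⟩ := h
  simp only [pow_eq_zero_iff, mul_eq_zero, map_eq_zero, two_ne_zero, ne_eq, not_false_eq_true,
    or_self] at hb
  exact hb

lemma sq_b {b0 c1 a2 b2 c3 a4 b4 c5 a6 b6 c7 : K}
    (h : P σ ⟨0, b0, c1, a2, b2, c3, a4, b4, c5, a6, b6, c7⟩ * P σ ⟨0, b0, c1, a2, b2, c3, a4, b4, c5, a6, b6, c7⟩ = 1)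
    (hb : b0 ≠ 0) : c7 = 0 ∧ a6 = 0 := by
  rw [one_Z] at h
  coordsX h
  obtain ⟨-, -, h32, h31, -⟩ := h
  have hc : c7 = 0 := by
    have e : b0 * c7 = 0 := by linear_combination h31 - a2 * CharTwo.two_eq_zero (R := K)
    exact (mul_eq_zero.1 e).resolve_left hb
  subst hc
  have e : b0 * a6 = 0 := by
    simp only [mul_zero, add_zero] at h32
    linear_combination h32 - c1 * CharTwo.two_eq_zero (R := K)
  exact ⟨rfl, (mul_eq_zero.1 e).resolve_left hb⟩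

lemma sq_b2 {b0 c1 b2 c3 a4 b4 c5 b6 : K}
    (h : P σ ⟨0, b0, c1, 0, b2, c3, a4, b4, c5, 0, b6, 0⟩ * P σ ⟨0, b0, c1, 0, b2, c3, a4, b4, c5, 0, b6, 0⟩ = 1)
    (hb : b0 ≠ 0) : b6 = 0 ∧ a4 = 0 ∧ c5 = 0 := by
  rw [one_Z] at h
  coordsX h
  obtain ⟨-, -, -, -, h46, h45, -, h47, -⟩ := h
  have h2 := CharTwo.two_eq_zero (R := K)
  have e6 : b0 * b6 = 0 := by linear_combination h45 - c3 * h2
  obtain rfl := (mul_eq_zero.1 e6).resolve_left hb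
  simp only [map_zero, mul_zero, add_zero, zero_pow two_ne_zero] at h46 h47
  have e4 : σ a4 ^ 2 * a4 = 0 := by linear_combination h47 - b4 * h2
  have ha : a4 = 0 := by simpa using e4
  subst ha
  simp only [mul_zero, zero_add] at h46
  have e5 : b0 * c5 = 0 := by linear_combination h46 - b2 * h2
  exact ⟨rfl, rfl, (mul_eq_zero.1 e5).resolve_left hb⟩

lemma sq_seven {c1 b2 a4 b4 c5 b6 c7 : K}
    (h : P σ ⟨0, 0, c1, 0, b2, 0, a4, b4, c5, 0, b6, c7⟩ * P σ ⟨0, 0, c1, 0, b2, 0, a4, b4, c5, 0, b6, c7⟩ = 1)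
    (hc : c7 ≠ 0) : c1 = 0 ∧ a4 = 0 ∧ b2 = 0 := by
  rw [one_Z] at h
  coordsX h
  obtain ⟨-, -, -, -, -, -, -, h47, h43, -, h42, -⟩ := h
  have h2 := CharTwo.two_eq_zero (R := K)
  have e4 : a4 * c7 = 0 := by linear_combination h42 - b6 * h2
  obtain rfl := (mul_eq_zero.1 e4).resolve_right hc
  have e1 : c1 * σ c7 ^ 2 = 0 := by linear_combination h43 - c5 * h2
  obtain rfl := (mul_eq_zero.1 e1).resolve_right (pow_ne_zero 2 ((map_ne_zero σ).2 hc))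
  simp only [map_zero, mul_zero, zero_mul, zero_add, zero_pow two_ne_zero] at h47
  have e2 : b2 * c7 = 0 := by linear_combination h47 - b4 * h2
  exact ⟨rfl, rfl, (mul_eq_zero.1 e2).resolve_right hc⟩

variable (hi : F42.Inv2 σ)

include hi

omit [Fintype K] in
lemma exists_root (y : K) : ∃ x : K, σ x ^ 2 = y := ⟨σ y, hi y⟩

/-- the long representative, scaled -/
lemma reach_zb {b : K} (hb : b ≠ 0) : Reach σ (P σ { b0 := b }) := by
  set y : Kˣ := Units.mk0 (σ b⁻¹) (by simpa using hb)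
  set x : Kˣ := Units.map σ.toMonoidHom y
  refine .inl ⟨F42.hB x y, F42.hB_fix hi rfl, ?_⟩
  have e : ∀ c : K, P σ { b0 := c } = F42.W (0, 0, σ c, c) := fun c => by
    simp [el_b0, F42.W, xG_zero]
  have hy : (y : K) = σ b⁻¹ := rfl
  have hx : (x : K) = σ (σ b⁻¹) := rfl
  rw [e, e, F42.hB_conj_W, hy, hx, hi, map_one, ← map_mul, inv_mul_cancel₀ hb, map_one, mul_zero, mul_zero]

/-- the other representative, scaled -/
lemma reach_c7 {c : K} (hc : c ≠ 0) : Reach σ (P σ { c7 := c }) := by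
  obtain ⟨s, hs⟩ : ∃ s : K, s ^ 2 = c⁻¹ := by
    obtain ⟨s, hs⟩ := isSquare_of_charTwo' (c⁻¹ : K)
    exact ⟨s, by rw [sq, hs]⟩
  have hs0 : s ≠ 0 := fun h0 => hc (by simpa [h0] using hs.symm)
  set y : Kˣ := Units.mk0 s hs0
  set cv : Fin chevF4.rank → Kˣ := F42.v4 (Units.map σ.toMonoidHom y) 1 1 y with hcv
  have hh : tor chevF4 auxF4 cv ∈ (F42.tw σ).fix :=
    ((F42.tw σ).tor_mem_fix_iff _).2 (congrArg _ ((F42.tw σ).mem_thetaFix.1 ((F42.thetaFix_iff hi _).2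
      ⟨rfl, σ.map_one⟩)))
  refine .inr ⟨_, hh, ?_⟩
  have hchi : ∀ r, (chi chevF4 auxF4 cv r : K) = σ (y : K) ^ auxF4.cart 0 r * (y : K) ^ auxF4.cart 3 r :=
    fun r => by
      rw [chi_hG_simple cv r]
      show ∏ i : Fin 4, ((![Units.map σ.toMonoidHom y, 1, 1, y] : Fin 4 → Kˣ) i : K) ^
        auxF4.cart i.val r = _
      simp [Fin.prod_univ_four]
  rw [el_c7, el_c7, ← conj_mul]
  simp only [X]
  rw [tor_conj_xG g₄ cv (show 33 < chevF4.nroots by decide +kernel),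
    tor_conj_xG g₄ cv (show 24 < chevF4.nroots by decide +kernel), hchi, hchi,
    show auxF4.cart 0 33 = 2 by decide +kernel, show auxF4.cart 3 33 = 0 by decide +kernel,
    show auxF4.cart 0 24 = 0 by decide +kernel, show auxF4.cart 3 24 = 2 by decide +kernel]
  have hy : (y : K) ^ 2 * c = 1 := by
    show s ^ 2 * c = 1
    rw [hs, inv_mul_cancel₀ hc]
  simp only [zpow_ofNat, zpow_zero, one_mul, mul_one, pow_zero]
  rw [← map_pow, ← map_mul, hy]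

/-- a non-zero coordinate on the simple root pair -/
lemma reach_seven {c1 a2 b2 c3 a4 b4 c5 a6 b6 c7 : K} (hc : c7 ≠ 0)
    (h : P σ ⟨0, 0, c1, a2, b2, c3, a4, b4, c5, a6, b6, c7⟩ * P σ ⟨0, 0, c1, a2, b2, c3, a4, b4, c5, a6, b6, c7⟩ = 1) :
    Reach σ (P σ ⟨0, 0, c1, a2, b2, c3, a4, b4, c5, a6, b6, c7⟩) := by
  have h2 := CharTwo.two_eq_zero (R := K)
  obtain ⟨⟨a0', b0', c1', a2', b2', c3', a4', b4', c5', a6', b6', c7'⟩, h', hj, e⟩ := step hi h { a0 := a6 / c7 }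
  simp only [el_a0, _root_.mul_inv_rev, inv_eq] at e
  coordsX e
  obtain ⟨u0, u1, -, -, -, -, -, -, -, u6, -, u7⟩ := e
  rw [div_mul_cancel₀ _ hc, CharTwo.add_self_eq_zero] at u6
  subst u0 u1 u6 u7
  refine Reach.of_cj hj ?_
  clear h hj
  obtain ⟨⟨a0'', b0'', c1'', a2'', b2'', c3'', a4'', b4'', c5'', a6'', b6'', c7''⟩, h, hj, e⟩ := step hi h' { b0 := a2' / c7 }
  simp only [el_b0, _root_.mul_inv_rev, inv_eq] at e
  coordsX e
  obtain ⟨u0, u1, -, u2, -, -, -, -, -, u6, -, u7⟩ := e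
  rw [div_mul_cancel₀ _ hc, CharTwo.add_self_eq_zero] at u2
  subst u0 u1 u2 u6 u7
  refine Reach.of_cj hj ?_
  clear h' hj
  obtain ⟨x, hx⟩ := exists_root hi (c3'' / c7)
  obtain ⟨⟨A0, B0, C1, A2, B2, C3, A4, B4, C5, A6, B6, C7⟩, h', hj, e⟩ := step hi h { c1 := x }
  simp only [el_c1, _root_.mul_inv_rev, inv_eq] at e
  coordsX e
  obtain ⟨u0, u1, -, u2, -, u3, -, -, -, u6, -, u7⟩ := e
  rw [hx, div_mul_cancel₀ _ hc, CharTwo.add_self_eq_zero] at u3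
  subst u0 u1 u2 u3 u6 u7
  obtain ⟨rfl, rfl, rfl⟩ := sq_seven h' hc
  refine Reach.of_cj hj ?_
  clear h hj hx x
  obtain ⟨x, hx⟩ := exists_root hi (C5 / c7)
  obtain ⟨⟨d0, e0, f1, d2, e2, f3, d4, e4, f5, d6, e6, f7⟩, h, hj, e⟩ := step hi h' { a2 := x }
  simp only [el_a2, _root_.mul_inv_rev, inv_eq] at e
  coordsX e
  obtain ⟨u0, u1, u8, u2, u9, u3, u4, -, u5, u6, -, u7⟩ := e
  rw [hx, div_mul_cancel₀ _ hc, CharTwo.add_self_eq_zero] at u5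
  subst u0 u1 u2 u3 u4 u5 u6 u7 u8 u9
  refine Reach.of_cj hj ?_
  clear h' hj hx x
  obtain ⟨⟨A0, B0, C1, A2, B2', C3, A4, B4', C5', A6, B6', C7'⟩, h', hj, e⟩ := step hi h { a4 := e6 / c7 }
  simp only [el_a4, _root_.mul_inv_rev, inv_eq] at e
  coordsX e
  obtain ⟨u0, u1, u8, u2, u9, u3, u4, -, u5, u6, u10, u7⟩ := e
  rw [div_mul_cancel₀ _ hc, CharTwo.add_self_eq_zero] at u10
  subst u0 u1 u2 u3 u4 u5 u6 u7 u8 u9 u10
  refine Reach.of_cj hj ?_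
  clear h hj
  obtain ⟨⟨D0, E0, F1, D2, E2, F3, D4, E4, F5, D6, E6, F7⟩, h, hj, e⟩ := step hi h' { b2 := B4' / c7 }
  simp only [el_b2, _root_.mul_inv_rev, inv_eq] at e
  coordsX e
  obtain ⟨u0, u1, u8, u2, u9, u3, u4, u11, u5, u6, u10, u7⟩ := e
  rw [div_mul_cancel₀ _ hc, CharTwo.add_self_eq_zero] at u11
  subst u0 u1 u2 u3 u4 u5 u6 u7 u8 u9 u10 u11
  exact Reach.of_cj hj (reach_c7 hi hc)

/-- the image under the reflection fixing the direction three -/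
lemma flip_zero {a0 b0 c1 a2 b2 c3 a4 b4 c5 a6 b6 : K}
    (h : P σ ⟨a0, b0, c1, a2, b2, c3, a4, b4, c5, a6, b6, 0⟩ * P σ ⟨a0, b0, c1, a2, b2, c3, a4, b4, c5, a6, b6, 0⟩ = 1) :
    ∃ q : Co K, P σ q * P σ q = 1 ∧ Cj σ (P σ ⟨a0, b0, c1, a2, b2, c3, a4, b4, c5, a6, b6, 0⟩) (P σ q) ∧
      q.c7 = 0 ∧ q.a0 = a6 ∧ (a6 = 0 → q.b0 = b6) ∧
      (a0 = 0 → b0 = 0 → c1 = 0 → a2 = 0 → b2 = 0 → a6 = 0 → b6 = 0 →
        q.a6 = 0 ∧ q.b6 = 0 ∧ q.c1 = c5 ∧ q.a2 = a4 ∧ (a4 = 0 → q.b2 = b4)) := by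
  have hU : MulAut.conj ((F42.tw σ).nJ 0) (P σ ⟨a0, b0, c1, a2, b2, c3, a4, b4, c5, a6, b6, 0⟩) ∈
      chevF4.posUnipotent K := by
    have hp : ∀ r ∈ ord, ∀ t : K, X r t ∈ chevF4.posUnipotent K := fun r hr t =>
      xG_mem_posUnipotent g₄ (posRoots_mem.1 (by rw [posRoots_eq]; revert r; decide)) t
    simp only [P, pv, zb, Z, map_zero, X_zero, mul_one, one_mul, map_mul, n0_27, n0_25, n0_28, n0_30, n0_37, n0_32, n0_35, n0_31, n0_40, n0_46, n0_39, n0_45, n0_29, n0_41, n0_44, n0_47, n0_38, n0_43, n0_34, n0_26, n0_36, n0_42]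
    repeat' apply mul_mem
    all_goals exact hp _ (by decide) _
  obtain ⟨⟨a0', b0', c1', a2', b2', c3', a4', b4', c5', a6', b6', c7'⟩, hq, hj, e⟩ := weyl hi h (by decide) hU
  refine ⟨_, hq, hj, ?_⟩
  generalize hR : P σ (⟨a0', b0', c1', a2', b2', c3', a4', b4', c5', a6', b6', c7'⟩ : Co K) = R at e
  simp only [P, pv, zb, Z, map_zero, X_zero, mul_one, one_mul, map_mul, n0_27, n0_25, n0_28, n0_30, n0_37, n0_32, n0_35, n0_31, n0_40, n0_46, n0_39, n0_45, n0_29, n0_41, n0_44, n0_47, n0_38, n0_43, n0_34, n0_26, n0_36, n0_42] at e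
  replace e := congrArg (· * (X 33 (0 : K) * X 24 0)) e
  rw [show R * (X 33 (0 : K) * X 24 0) = R by simp [X_zero], ← hR] at e
  unfold P pv zb Z at e
  revert e
  sortX
  intro e
  obtain ⟨u0, u1, u8, u2, u9, u3, u4, u11, u5, u6, u10, u7⟩ := flat_inj e
  refine ⟨u7.symm, u0.symm, fun h => ?_, fun h0 h1 h2 h3 h4 h5 h6 => ⟨?_, ?_, ?_, ?_, fun h7 => ?_⟩⟩
  all_goals subst_vars
  all_goals simp [CharTwo.add_self_eq_zero, add_comm]

/-- the image under the reflection fixing the direction four -/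
lemma flip_one {c1 a2 b2 c3 a4 b4 c5 a6 b6 c7 : K}
    (h : P σ ⟨0, 0, c1, a2, b2, c3, a4, b4, c5, a6, b6, c7⟩ * P σ ⟨0, 0, c1, a2, b2, c3, a4, b4, c5, a6, b6, c7⟩ = 1) :
    ∃ q : Co K, P σ q * P σ q = 1 ∧ Cj σ (P σ ⟨0, 0, c1, a2, b2, c3, a4, b4, c5, a6, b6, c7⟩) (P σ q) ∧
      q.a0 = 0 ∧ q.b0 = 0 ∧ q.c7 = c1 ∧ q.a6 = a2 ∧ (a2 = 0 → c1 = 0 → q.b6 = b2) ∧
      (c1 = 0 → a2 = 0 → b2 = 0 → a4 = 0 → b4 = 0 → c5 = 0 → a6 = 0 → b6 = 0 → c7 = 0 →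
        q.c1 = 0 ∧ q.a2 = 0 ∧ q.b2 = 0 ∧ q.c5 = c3) := by
  have hU : MulAut.conj ((F42.tw σ).nJ 1) (P σ ⟨0, 0, c1, a2, b2, c3, a4, b4, c5, a6, b6, c7⟩) ∈
      chevF4.posUnipotent K := by
    have hp : ∀ r ∈ ord, ∀ t : K, X r t ∈ chevF4.posUnipotent K := fun r hr t =>
      xG_mem_posUnipotent g₄ (posRoots_mem.1 (by rw [posRoots_eq]; revert r; decide)) t
    simp only [P, pv, zb, Z, map_zero, mul_zero, add_zero, X_zero, mul_one, one_mul, map_mul, n1_37, n1_32, n1_35, n1_31, n1_40, n1_46, n1_39, n1_45, n1_29, n1_41, n1_44, n1_47, n1_38, n1_43, n1_34, n1_26, n1_36, n1_42, n1_33, n1_24]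
    repeat' apply mul_mem
    all_goals exact hp _ (by decide) _
  obtain ⟨⟨a0', b0', c1', a2', b2', c3', a4', b4', c5', a6', b6', c7'⟩, hq, hj, e⟩ := weyl hi h (by decide) hU
  refine ⟨_, hq, hj, ?_⟩
  generalize hR : P σ (⟨a0', b0', c1', a2', b2', c3', a4', b4', c5', a6', b6', c7'⟩ : Co K) = R at e
  simp only [P, pv, zb, Z, map_zero, mul_zero, add_zero, X_zero, mul_one, one_mul, map_mul, n1_37, n1_32, n1_35, n1_31, n1_40, n1_46, n1_39, n1_45, n1_29, n1_41, n1_44, n1_47, n1_38, n1_43, n1_34, n1_26, n1_36, n1_42, n1_33, n1_24] at e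
  replace e := congrArg ((X 27 (0 : K) * (X 25 0 * (X 28 0 * X 30 0))) * ·) e
  rw [show (X 27 (0 : K) * (X 25 0 * (X 28 0 * X 30 0))) * R = R by simp [X_zero], ← hR] at e
  unfold P pv zb Z at e
  revert e
  sortX
  intro e
  obtain ⟨u0, u1, u8, u2, u9, u3, u4, u11, u5, u6, u10, u7⟩ := flat_inj e
  refine ⟨u0.symm, u1.symm, u7.symm, u6.symm, fun h hc => ?_,
    fun h0 h1 h2 h3 h4 h5 h6 h7 h8 => ⟨?_, ?_, ?_, ?_⟩⟩
  all_goals subst_vars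
  all_goals simp [CharTwo.add_self_eq_zero, add_comm]

/-- a non-zero central coordinate on the other simple orbit -/
lemma reach_zero {b0 c1 a2 b2 c3 a4 b4 c5 a6 b6 c7 : K} (hb : b0 ≠ 0)
    (h : P σ ⟨0, b0, c1, a2, b2, c3, a4, b4, c5, a6, b6, c7⟩ * P σ ⟨0, b0, c1, a2, b2, c3, a4, b4, c5, a6, b6, c7⟩ = 1) :
    Reach σ (P σ ⟨0, b0, c1, a2, b2, c3, a4, b4, c5, a6, b6, c7⟩) := by
  obtain ⟨rfl, rfl⟩ := sq_b h hb
  obtain ⟨⟨A0, B0, C1, A2, B2, C3, A4, B4, C5, A6, B6, C7⟩, h', hj, e⟩ := step hi h { c7 := a2 / b0 }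
  simp only [el_c7, _root_.mul_inv_rev, inv_eq] at e
  coordsX e
  obtain ⟨u0, u1, -, u2, -, -, -, -, -, u6, -, u7⟩ := e
  rw [mul_div_cancel₀ _ hb, CharTwo.add_self_eq_zero] at u2
  subst u0 u1 u2 u6 u7
  obtain ⟨rfl, rfl, rfl⟩ := sq_b2 h' hb
  refine Reach.of_cj hj ?_
  clear h hj
  obtain ⟨⟨d0, e0, f1, d2, e2, f3, d4, e4, f5, d6, e6, f7⟩, h, hj, e⟩ := step hi h' { a6 := C1 / b0 }
  simp only [el_a6, _root_.mul_inv_rev, inv_eq] at e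
  coordsX e
  obtain ⟨u0, u1, u8, u2, -, -, u4, -, u5, u6, u10, u7⟩ := e
  rw [mul_div_cancel₀ _ hb, CharTwo.add_self_eq_zero] at u8
  subst u0 u1 u2 u4 u5 u6 u7 u8 u10
  refine Reach.of_cj hj ?_
  clear h' hj
  obtain ⟨x, hx⟩ := exists_root hi (e4 / b0)
  obtain ⟨⟨A0, B0', C1', A2, B2', C3', A4, B4', C5, A6, B6, C7⟩, h', hj, e⟩ := step hi h { b6 := x }
  simp only [el_b6, _root_.mul_inv_rev, inv_eq] at e
  coordsX e
  obtain ⟨u0, u1, u8, u2, -, -, u4, u11, u5, u6, u10, u7⟩ := e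
  rw [hx, mul_div_cancel₀ _ hb, CharTwo.add_self_eq_zero] at u11
  subst u0 u1 u2 u4 u5 u6 u7 u8 u10 u11
  refine Reach.of_cj hj ?_
  clear h hj hx x
  obtain ⟨⟨D0, E0, F1, D2, E2, F3, D4, E4, F5, D6, E6, F7⟩, h, hj, e⟩ := step hi h' { c5 := B2' / b0 }
  simp only [el_c5, _root_.mul_inv_rev, inv_eq] at e
  coordsX e
  obtain ⟨u0, u1, u8, u2, u9, u3, u4, u11, u5, u6, u10, u7⟩ := e
  rw [mul_div_cancel₀ _ hb, CharTwo.add_self_eq_zero] at u9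
  subst u0 u1 u2 u3 u4 u5 u6 u7 u8 u9 u10 u11
  refine Reach.of_cj hj ?_
  clear h' hj
  rcases eq_or_ne C3' 0 with rfl | hc
  · exact reach_zb hi hb
  -- move to the directions one and four
  obtain ⟨⟨A0, B0, C1, A2, B2, C3, A4, B4, C5, A6, B6, C7⟩, h', hj, e⟩ :=
    weyl hi h (j := 0) (by decide) (by
      simp only [P, pv, zb, Z, map_zero, mul_zero, add_zero, X_zero, mul_one, one_mul, map_mul, n0_27, n0_25, n0_28, n0_30, n0_37, n0_32, n0_35, n0_31, n0_40, n0_46, n0_39, n0_45, n0_29, n0_41, n0_44, n0_47, n0_38, n0_43, n0_34, n0_26, n0_36, n0_42]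
      repeat' apply mul_mem
      all_goals exact xG_mem_posUnipotent g₄ (posRoots_mem.1 (by rw [posRoots_eq]; decide)) _)
  generalize hR : P σ (⟨A0, B0, C1, A2, B2, C3, A4, B4, C5, A6, B6, C7⟩ : Co K) = R at e
  simp only [P, pv, zb, Z, map_zero, mul_zero, add_zero, zero_add, X_zero, mul_one, one_mul, map_mul, n0_27, n0_25, n0_28, n0_30, n0_37, n0_32, n0_35, n0_31, n0_40, n0_46, n0_39, n0_45, n0_29, n0_41, n0_44, n0_47, n0_38, n0_43, n0_34, n0_26, n0_36, n0_42] at e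
  replace e := congrArg (Z (0, 0) (0, 0) (0, 0) (0, 0) (0, 0) (0, 0) (0, 0) (0, 0) (0, 0) (0, 0) (0, 0) (0, 0) * ·) e
  rw [← one_Z, one_mul R, ← hR, one_Z] at e
  coordsX e
  obtain ⟨u0, u1, u8, u2, u9, u3, u4, u11, u5, u6, u10, u7⟩ := e
  subst u0 u1 u2 u3 u4 u5 u6 u7 u8 u9 u10 u11
  refine Reach.of_cj hj ?_
  clear h hj hR R
  obtain ⟨⟨p0, p1, p2, p3, p4, p5, p6, p7, p8, p9, p10, p11⟩, h, hj, e⟩ :=
    weyl hi h' (j := 1) (by decide) (by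
      simp only [P, pv, zb, Z, map_zero, mul_zero, add_zero, zero_add, X_zero, mul_one, one_mul, map_mul, n1_37, n1_32, n1_35, n1_31, n1_40, n1_46, n1_39, n1_45, n1_29, n1_41, n1_44, n1_47, n1_38, n1_43, n1_34, n1_26, n1_36, n1_42, n1_33, n1_24]
      repeat' apply mul_mem
      all_goals exact xG_mem_posUnipotent g₄ (posRoots_mem.1 (by rw [posRoots_eq]; decide)) _)
  generalize hR : P σ (⟨p0, p1, p2, p3, p4, p5, p6, p7, p8, p9, p10, p11⟩ : Co K) = R at e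
  simp only [P, pv, zb, Z, map_zero, mul_zero, add_zero, zero_add, X_zero, mul_one, one_mul, map_mul, n1_37, n1_32, n1_35, n1_31, n1_40, n1_46, n1_39, n1_45, n1_29, n1_41, n1_44, n1_47, n1_38, n1_43, n1_34, n1_26, n1_36, n1_42, n1_33, n1_24] at e
  replace e := congrArg (Z (0, 0) (0, 0) (0, 0) (0, 0) (0, 0) (0, 0) (0, 0) (0, 0) (0, 0) (0, 0) (0, 0) (0, 0) * ·) e
  rw [← one_Z, one_mul R, ← hR, one_Z] at e
  coordsX e
  obtain ⟨u0, u1, u8, u2, u9, u3, u4, u11, u5, u6, u10, u7⟩ := e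
  subst u0 u1 u2 u3 u4 u5 u6 u7 u8 u9 u10 u11
  refine Reach.of_cj hj ?_
  have h'' := h
  clear h h' hj hR R
  obtain ⟨⟨r0, r1, r2, r3, r4, r5, r6, r7, r8, r9, r10, r11⟩, h, hj, e⟩ :=
    weyl hi h'' (j := 0) (by decide) (by
      simp only [P, pv, zb, Z, map_zero, mul_zero, add_zero, zero_add, X_zero, mul_one, one_mul, map_mul, n0_27, n0_25, n0_28, n0_30, n0_37, n0_32, n0_35, n0_31, n0_40, n0_46, n0_39, n0_45, n0_29, n0_41, n0_44, n0_47, n0_38, n0_43, n0_34, n0_26, n0_36, n0_42]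
      repeat' apply mul_mem
      all_goals exact xG_mem_posUnipotent g₄ (posRoots_mem.1 (by rw [posRoots_eq]; decide)) _)
  generalize hR : P σ (⟨r0, r1, r2, r3, r4, r5, r6, r7, r8, r9, r10, r11⟩ : Co K) = R at e
  simp only [P, pv, zb, Z, map_zero, mul_zero, add_zero, zero_add, X_zero, mul_one, one_mul, map_mul, n0_27, n0_25, n0_28, n0_30, n0_37, n0_32, n0_35, n0_31, n0_40, n0_46, n0_39, n0_45, n0_29, n0_41, n0_44, n0_47, n0_38, n0_43, n0_34, n0_26, n0_36, n0_42] at e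
  replace e := congrArg (Z (0, 0) (0, 0) (0, 0) (0, 0) (0, 0) (0, 0) (0, 0) (0, 0) (0, 0) (0, 0) (0, 0) (0, 0) * ·) e
  rw [← one_Z, one_mul R, ← hR, one_Z] at e
  coordsX e
  obtain ⟨u0, u1, u8, u2, u9, u3, u4, u11, u5, u6, u10, u7⟩ := e
  subst u0 u1 u2 u3 u4 u5 u6 u7 u8 u9 u10 u11
  refine Reach.of_cj hj ?_
  obtain ⟨⟨A0, B0, C1, A2, B2, C3, A4, B4, C5, A6, B6, C7⟩, hq, hj, e0, e1, e7, -⟩ := flip_one hi h
  dsimp only at e0 e1 e7
  subst e0 e1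
  exact Reach.of_cj hj (reach_seven hi (by rwa [e7]) hq)

/-- every involution reaches a representative -/
theorem reach {q : Co K} (hq : P σ q * P σ q = 1) (h1 : P σ q ≠ 1) : Reach σ (P σ q) := by
  obtain ⟨a0, b0, c1, a2, b2, c3, a4, b4, c5, a6, b6, c7⟩ := q
  obtain rfl : a0 = 0 := sq_eqs hq
  rcases ne_or_eq b0 0 with hb | rfl
  · exact reach_zero hi hb hq
  rcases ne_or_eq c7 0 with hc | rfl
  · exact reach_seven hi hc hq
  -- support in directions one to six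
  have M6 : ∀ {c1 a2 b2 c3 a4 b4 c5 a6 b6 : K},
      P σ ⟨0, 0, c1, a2, b2, c3, a4, b4, c5, a6, b6, 0⟩ * P σ ⟨0, 0, c1, a2, b2, c3, a4, b4, c5, a6, b6, 0⟩ = 1 →
      a6 = 0 ∧ (b6 ≠ 0 → Reach σ (P σ ⟨0, 0, c1, a2, b2, c3, a4, b4, c5, a6, b6, 0⟩)) := by
    intro c1 a2 b2 c3 a4 b4 c5 a6 b6 h
    obtain ⟨q, hq, hj, e7, e0, eb, -⟩ := flip_zero hi h
    have ha : a6 = 0 := e0 ▸ sq_eqs hq
    refine ⟨ha, fun hb => Reach.of_cj hj ?_⟩
    obtain ⟨A0, B0, C1, A2, B2, C3, A4, B4, C5, A6, B6, C7⟩ := q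
    obtain rfl : B0 = b6 := eb ha
    obtain rfl : A0 = 0 := e0.trans ha
    exact reach_zero hi hb hq
  -- support in directions one to five
  have M2 : ∀ {c1 a2 b2 c3 a4 b4 c5 : K},
      P σ ⟨0, 0, c1, a2, b2, c3, a4, b4, c5, 0, 0, 0⟩ * P σ ⟨0, 0, c1, a2, b2, c3, a4, b4, c5, 0, 0, 0⟩ = 1 →
      (c1 = 0 → a2 = 0) ∧ (c1 ≠ 0 ∨ b2 ≠ 0 → Reach σ (P σ ⟨0, 0, c1, a2, b2, c3, a4, b4, c5, 0, 0, 0⟩)) := by
    intro c1 a2 b2 c3 a4 b4 c5 h
    obtain ⟨⟨A0, B0, C1, A2, B2, C3, A4, B4, C5, A6, B6, C7⟩, hq, hj, e0, e1, e7, e6, eb, -⟩ :=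
      flip_one hi h
    simp only at e0 e1 e7 e6 eb
    subst e0 e1
    have ha : c1 = 0 → a2 = 0 := fun hc => by
      obtain rfl : C7 = 0 := e7.trans hc
      exact e6.symm.trans (M6 hq).1
    refine ⟨ha, fun hor => Reach.of_cj hj ?_⟩
    rcases ne_or_eq c1 0 with hc | rfl
    · exact reach_seven hi (by rwa [e7]) hq
    · subst e7
      exact (M6 hq).2 (by rw [eb (ha rfl) rfl]; exact hor.resolve_left (by simp))
  -- support in directions three to five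
  have M3 : ∀ {c3 a4 b4 c5 : K},
      P σ ⟨0, 0, 0, 0, 0, c3, a4, b4, c5, 0, 0, 0⟩ * P σ ⟨0, 0, 0, 0, 0, c3, a4, b4, c5, 0, 0, 0⟩ = 1 →
      (c5 = 0 → a4 = 0) ∧ (c5 ≠ 0 ∨ b4 ≠ 0 → Reach σ (P σ ⟨0, 0, 0, 0, 0, c3, a4, b4, c5, 0, 0, 0⟩)) := by
    intro c3 a4 b4 c5 h
    obtain ⟨⟨A0, B0, C1, A2, B2, C3, A4, B4, C5, A6, B6, C7⟩, hq, hj, e7, e0, eb, er⟩ := flip_zero hi h
    obtain ⟨e6, e6', e1, e2, e3⟩ := er rfl rfl rfl rfl rfl rfl rfl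
    dsimp only at e7 e0 eb e6 e6' e1 e2 e3
    have eb' := eb rfl
    subst e7 e0 eb' e6 e6'
    have ha : c5 = 0 → a4 = 0 := fun hc => e2.symm.trans ((M2 hq).1 (e1.trans hc))
    refine ⟨ha, fun hor => Reach.of_cj hj ((M2 hq).2 ?_)⟩
    rcases ne_or_eq c5 0 with hc | rfl
    · exact .inl (e1.symm ▸ hc)
    · exact .inr (by rw [e3 (ha rfl)]; exact hor.resolve_left (by simp))
  obtain ⟨rfl, h6⟩ := M6 hq
  rcases ne_or_eq b6 0 with hb | rfl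
  · exact h6 hb
  obtain ⟨ha, h2⟩ := M2 hq
  rcases ne_or_eq c1 0 with hc | rfl
  · exact h2 (.inl hc)
  obtain rfl := ha rfl
  rcases ne_or_eq b2 0 with hb | rfl
  · exact h2 (.inr hb)
  obtain ⟨ha, h5⟩ := M3 hq
  rcases ne_or_eq c5 0 with hc | rfl
  · exact h5 (.inl hc)
  obtain rfl := ha rfl
  rcases ne_or_eq b4 0 with hb | rfl
  · exact h5 (.inr hb)
  -- a single coordinate in direction three
  have hc3 : c3 ≠ 0 := by
    rintro rfl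
    exact h1 (by simp [P, pv, zb, Z, X_zero])
  obtain ⟨⟨A0, B0, C1, A2, B2, C3, A4, B4, C5, A6, B6, C7⟩, hq', hj, e0, e1, e7, e6, eb, er⟩ := flip_one hi hq
  obtain ⟨r1, r2, r3, r5⟩ := er rfl rfl rfl rfl rfl rfl rfl rfl rfl
  dsimp only at e0 e1 e7 e6 eb r1 r2 r3 r5
  have eb' := eb rfl rfl
  subst e0 e1 e7 e6 eb' r1 r2 r3
  exact Reach.of_cj hj ((M3 hq').2 (.inl (r5.symm ▸ hc3)))

end CfsgLib.Chev.F42Invol
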