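/-
The two involution classes of twisted F4 and of the Tits group.
-/
import Cfsg.Agent.Lib.Chev.F42Invol.Reduce
import Cfsg.Agent.Lib.Chev.Twist.Fam.F4Invol

set_option autoImplicit false
set_option maxRecDepth 100000
set_option maxHeartbeats 1000000

namespace CfsgLib.Chev.F42Invol

open Cfsg.Lie Matrix CfsgLib.Chev

variable (K : Type*) [Field K] in
/-- the central representative -/
noncomputable def Zrep : GL chevF4.Idx K := X 28 1 * X 30 1

variable (K : Type*) [Field K] in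
/-- the other representative -/
noncomputable def Prep : GL chevF4.Idx K := X 33 1 * X 24 1

/-- coefficient of a sparse vector -/
def coefAt (v : List (ℕ × ℤ)) (k : ℕ) : ℤ := (v.map fun p => if k = p.1 then p.2 else 0).sum

lemma sval_coef {K : Type*} [Field K] (v : List (ℕ × ℤ)) (x : chevF4.Idx) :
    sval (ev chevF4 K) v x = (coefAt v (idx chevF4 x) : K) := by
  induction v with
  | nil => simp [sval, coefAt]
  | cons p v ih =>
    rw [sval_cons, Pi.add_apply, ih]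
    simp only [coefAt, List.map_cons, List.sum_cons, Int.cast_add, Pi.smul_apply, ev]
    split_ifs <;> simp

/-- rows of the certificate -/
def certR : List ℕ := [37, 28, 5, 11, 12, 10, 14, 21, 16, 23, 24, 0, 26, 3, 30, 38, 33, 40, 35, 42, 43, 46, 48, 51]
/-- columns of the certificate -/
def certC : List ℕ := [1, 2, 4, 7, 8, 9, 10, 13, 15, 16, 17, 18, 25, 27, 29, 31, 32, 33, 34, 35, 36, 41, 44, 50]
/-- the inverse of the minor modulo two -/
def certN : List (List ℤ) :=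
  [[1, 0, 0, 0, 0, 0, 0, 0, 0, 0, 0, 1, 0, 0, 0, 0, 0, 0, 0, 0, 0, 0, 0, 0],
   [0, 1, 0, 0, 0, 0, 0, 0, 0, 0, 0, 0, 0, 1, 0, 0, 0, 0, 0, 0, 0, 0, 0, 0],
   [0, 0, 1, 0, 0, 0, 0, 0, 0, 0, 0, 0, 0, 0, 0, 0, 0, 0, 0, 0, 0, 0, 0, 0],
   [0, 0, 0, 1, 0, 0, 0, 0, 0, 0, 0, 0, 0, 0, 0, 0, 0, 0, 0, 0, 0, 0, 0, 0],
   [0, 0, 0, 0, 1, 0, 0, 0, 0, 0, 0, 0, 0, 0, 0, 0, 0, 0, 0, 0, 0, 0, 0, 0],
   [0, 0, 0, 0, 0, 1, 0, 0, 0, 0, 0, 0, 0, 0, 0, 0, 0, 0, 0, 0, 0, 0, 0, 0],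
   [0, 0, 0, 0, 0, 1, 0, 1, 0, 0, 0, 0, 0, 0, 0, 0, 0, 0, 0, 0, 0, 0, 0, 0],
   [0, 0, 0, 0, 0, 0, 1, 1, 0, 0, 0, 0, 0, 0, 0, 0, 0, 0, 0, 0, 0, 0, 0, 0],
   [0, 0, 0, 0, 0, 0, 0, 0, 1, 0, 0, 0, 0, 0, 0, 0, 0, 0, 0, 0, 0, 0, 0, 0],
   [0, 0, 0, 0, 0, 0, 0, 0, 1, 1, 0, 0, 0, 0, 0, 0, 0, 0, 0, 0, 0, 0, 0, 0],
   [0, 0, 0, 0, 0, 0, 0, 0, 0, 0, 1, 0, 0, 0, 0, 0, 0, 0, 0, 0, 0, 0, 0, 0],
   [0, 0, 0, 0, 0, 0, 0, 0, 0, 0, 0, 1, 0, 0, 0, 0, 0, 0, 0, 0, 0, 0, 0, 0],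
   [0, 0, 0, 0, 0, 0, 0, 0, 0, 0, 0, 0, 1, 0, 0, 0, 0, 0, 0, 0, 0, 0, 0, 0],
   [0, 0, 0, 0, 0, 0, 0, 0, 0, 0, 0, 0, 0, 1, 0, 0, 0, 0, 0, 0, 0, 0, 0, 0],
   [0, 0, 0, 0, 0, 0, 0, 0, 0, 0, 0, 0, 0, 0, 1, 0, 0, 0, 0, 0, 0, 0, 0, 0],
   [0, 0, 0, 0, 0, 0, 0, 0, 0, 0, 0, 0, 0, 0, 0, 1, 0, 0, 0, 0, 0, 0, 0, 0],
   [0, 0, 0, 0, 0, 0, 0, 0, 0, 0, 0, 0, 0, 0, 0, 0, 1, 0, 0, 0, 0, 0, 0, 0],
   [0, 0, 0, 0, 0, 0, 0, 0, 0, 0, 0, 0, 0, 0, 0, 0, 1, 1, 0, 0, 0, 0, 0, 0],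
   [0, 0, 0, 0, 0, 0, 0, 0, 0, 0, 0, 0, 0, 0, 0, 0, 0, 0, 1, 0, 0, 0, 0, 0],
   [0, 0, 0, 0, 0, 0, 0, 0, 0, 0, 0, 0, 0, 0, 0, 0, 0, 0, 1, 0, 0, 1, 0, 0],
   [0, 0, 0, 0, 0, 0, 0, 0, 0, 0, 0, 0, 0, 0, 0, 0, 0, 0, 0, 0, 1, 0, 0, 0],
   [0, 0, 0, 0, 0, 0, 0, 0, 0, 0, 0, 0, 0, 0, 0, 0, 0, 0, 0, 1, 0, 1, 0, 0],
   [0, 0, 0, 0, 0, 0, 0, 0, 0, 0, 0, 0, 0, 0, 0, 0, 0, 0, 0, 0, 0, 0, 1, 0],
   [0, 0, 0, 0, 0, 0, 0, 0, 0, 0, 0, 0, 0, 0, 0, 0, 0, 0, 0, 0, 0, 0, 0, 1]]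
/-- the columns moved by the central representative -/
def movedL : List ℕ := [0, 2, 3, 5, 6, 11, 12, 14, 16, 19, 20, 21, 23, 24, 26, 28, 30, 37, 38, 40, 42, 46, 47]

/-- integral entries of a word minus the identity -/
noncomputable def entry (w : List (ℕ × ℤ)) (i j : ℕ) : ℤ :=
  coefAt (auxF4.appWord chevF4.rank chevF4.nroots w [(j, 1)]) i - if i = j then 1 else 0

lemma entry_eq {K : Type*} [Field K] {w : List (ℕ × ℤ)} (hw : ∀ p ∈ w, p.1 < chevF4.nroots)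
    (x y : chevF4.Idx) :
    (chevF4.wordMat K (w.map fun p => (p.1, (p.2 : K))) - 1) x y =
      (entry w (idx chevF4 x) (idx chevF4 y) : K) := by
  have e := congrFun (sval_appWord (F := K) stdF4.good hw [(idx chevF4 y, 1)]) x
  rw [sval_coef, show sval (ev chevF4 K) [(idx chevF4 y, (1 : ℤ))] = ev chevF4 K (idx chevF4 y) by
    simp [sval], mulVec_ev] at e
  rw [entry, Matrix.sub_apply, Matrix.one_apply, Int.cast_sub, e]
  by_cases h : x = y
  · simp [h]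
  · rw [if_neg h, if_neg fun h' => h (idx_inj h')]
    simp

lemma cert_short : ∀ i : Fin 24, ∀ k : Fin 24,
    (∑ j : Fin 24, entry [(33, 1), (24, 1)] (certR.getD i.val 0) (certC.getD j.val 0) *
      (certN.getD j.val []).getD k.val 0) % 2 = if i = k then 1 else 0 := by
  decide +kernel

lemma cert_long : ∀ i : Fin 52, ∀ j : Fin 52, ¬ movedL.contains j.val →
    entry [(28, 1), (30, 1)] i.val j.val % 2 = 0 := by
  decide +kernel

variable {K : Type*} [Field K] [CharP K 2]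

lemma cast_two {a b : ℤ} (h : a % 2 = b % 2) : (a : K) = b := by
  exact (CharP.intCast_eq_intCast K 2).2 h

/-- the representatives are not similar -/
theorem not_similar (g : GL chevF4.Idx K) : g * Zrep K * g⁻¹ ≠ Prep K := by
  classical
  intro h
  let WL : List (ℕ × ℤ) := [(28, 1), (30, 1)]
  let WS : List (ℕ × ℤ) := [(33, 1), (24, 1)]
  set L0 : Matrix chevF4.Idx chevF4.Idx K := chevF4.wordMat K (WL.map fun p => (p.1, (p.2 : K))) - 1 with hL
  set S0 : Matrix chevF4.Idx chevF4.Idx K := chevF4.wordMat K (WS.map fun p => (p.1, (p.2 : K))) - 1 with hS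
  let G : Matrix chevF4.Idx chevF4.Idx K := g
  let G' : Matrix chevF4.Idx chevF4.Idx K := ((g⁻¹ : GL chevF4.Idx K) : Matrix _ _ K)
  have hconj : G * L0 * G' = S0 := by
    have e := congrArg (Units.val : GL chevF4.Idx K → Matrix chevF4.Idx chevF4.Idx K) h
    simp only [Zrep, Prep, X, Units.val_mul, xG_val] at e
    simp only [hL, hS, WL, WS, List.map_cons, List.map_nil, wordMat_cons, wordMat_nil, Int.cast_one, mul_one]
    rw [mul_sub, sub_mul, e, mul_one, show G * G' = 1 from g.mul_inv]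
  choose col hcol using fun j : Fin 52 => exists_idx (D := chevF4) (c := j.val) (by
    have := j.isLt
    show j.val < 4 + 48
    omega)
  have hlen : movedL.length = 23 := rfl
  let m : Fin 23 → chevF4.Idx := fun k => col ⟨movedL.getD k.val 0,
    (show ∀ k : Fin 23, movedL.getD k.val 0 < 52 by decide) k⟩
  let E : Matrix (Fin 23) chevF4.Idx K := fun k y => if m k = y then 1 else 0
  have hfac : L0 = L0.submatrix id m * E := by
    ext x y
    rw [Matrix.mul_apply]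
    simp only [Matrix.submatrix_apply, id_eq, E, mul_ite, mul_one, mul_zero]
    by_cases hy : ∃ k, m k = y
    · obtain ⟨k, rfl⟩ := hy
      have hinj : Function.Injective m := by
        intro a b e
        have := congrArg (idx chevF4) e
        simp only [m, hcol] at this
        exact (show ∀ a b : Fin 23, movedL.getD a.val 0 = movedL.getD b.val 0 → a = b by decide) a b this
      rw [Finset.sum_eq_single k (fun b _ hb => if_neg fun e => hb (hinj e)) (by simp), if_pos rfl]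
    · rw [Finset.sum_eq_zero fun b _ => if_neg fun e => hy ⟨b, e⟩, hL,
        entry_eq (by decide), ← Int.cast_zero]
      refine cast_two ?_
      have hx := idx_lt x
      have hy' := idx_lt y
      refine (cert_long ⟨_, hx⟩ ⟨_, hy'⟩ ?_).trans (by simp)
      simp only [Bool.not_eq_true, List.contains_eq_mem, decide_eq_false_iff_not]
      intro hm
      obtain ⟨k, hk, e⟩ := List.getElem_of_mem hm
      refine hy ⟨⟨k, hlen ▸ hk⟩, idx_inj ?_⟩
      simp only [m, hcol, List.getD_eq_getElem?_getD, List.getElem?_eq_getElem hk, Option.getD_some, e]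
  let R : Fin 24 → chevF4.Idx := fun i => col ⟨certR.getD i.val 0,
    (show ∀ k : Fin 24, certR.getD k.val 0 < 52 by decide) i⟩
  let C : Fin 24 → chevF4.Idx := fun i => col ⟨certC.getD i.val 0,
    (show ∀ k : Fin 24, certC.getD k.val 0 < 52 by decide) i⟩
  let N : Matrix (Fin 24) (Fin 24) K := fun j k => (((certN.getD j.val []).getD k.val 0 : ℤ) : K)
  have hone : S0.submatrix R C * N = 1 := by
    ext i k
    rw [Matrix.mul_apply, Matrix.one_apply]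
    simp only [Matrix.submatrix_apply, hS, N]
    simp only [entry_eq (K := K) (w := WS) (by decide), R, C, hcol, ← Int.cast_mul, ← Int.cast_sum]
    rw [cast_two (b := if i = k then 1 else 0) (by rw [cert_short i k]; split_ifs <;> rfl)]
    split_ifs <;> simp
  have hrank : (S0.submatrix R C * N).rank ≤ 23 := by
    have e : S0.submatrix R C * N =
        (G * L0.submatrix id m).submatrix R id * ((E * G').submatrix id C * N) := by
      rw [← Matrix.mul_assoc, ← Matrix.submatrix_mul _ _ R id C Function.bijective_id,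
        Matrix.mul_assoc G, ← Matrix.mul_assoc (L0.submatrix id m), ← hfac, ← Matrix.mul_assoc, hconj]
    rw [e]
    exact (Matrix.rank_mul_le_left _ _).trans ((Matrix.rank_le_card_width _).trans (le_of_eq (Fintype.card_fin 23)))
  rw [hone, Matrix.rank_one, Fintype.card_fin] at hrank
  omega


lemma P_b0 {σ : K →+* K} : P σ { b0 := (1 : K) } = Zrep K := by simp [el_b0, Zrep]

lemma P_c7 {σ : K →+* K} : P σ { c7 := (1 : K) } = Prep K := by simp [el_c7, Prep]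

variable [Fintype K] {σ : K →+* K} {m : ℕ}

lemma Nice.ne_one {y : GL chevF4.Idx K} (h : orderOf y = 2) : y ≠ 1 := fun e => by
  rw [e, orderOf_one] at h
  omega

/-- every involution of the fixed group is conjugate to a representative -/
theorem exists_rep (hi : F42.Inv2 σ) (hK : Fintype.card K = 2 ^ (2 * m + 1)) {y : GL chevF4.Idx K}
    (hy : y ∈ (F42.tw σ).fix) (h2 : orderOf y = 2) : Cj σ y (Zrep K) ∨ Cj σ y (Prep K) := by
  classical
  haveI : Fact (Nat.Prime 2) := ⟨Nat.prime_two⟩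
  haveI : Finite (GL chevF4.Idx K) := finite_GL
  set G := (F42.tw σ).fix
  obtain ⟨hU, hG⟩ := F42.orders hi hK
  set q := 2 ^ (2 * m + 1) with hq
  set U : Subgroup ↥G := (chevF4.posUnipotent K ⊓ G).subgroupOf G
  have hUc : Nat.card U = q ^ 12 := by
    rw [Nat.card_congr (Subgroup.subgroupOfEquivOfLe inf_le_right).toEquiv, hU]
  have hidx : ¬ 2 ∣ U.index := by
    have h1 := U.card_mul_index
    rw [hUc, hG, mul_assoc _ _ (q ^ 6 + 1), mul_assoc _ _ (_ * (q ^ 6 + 1)), mul_assoc _ _ (_ * (_ * _))] at h1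
    have hq0 : 0 < q := by positivity
    rw [Nat.eq_of_mul_eq_mul_left (pow_pos hq0 12) h1]
    have he : ∀ a, a ≠ 0 → 2 ∣ q ^ a := fun a ha => dvd_pow (dvd_pow_self 2 (by omega)) ha
    have e1 : 2 ∣ q := dvd_pow_self 2 (by omega)
    have e3 := he 3 (by decide)
    have e4 := he 4 (by decide)
    have e6 := he 6 (by decide)
    have p4 : 0 < q ^ 4 := by positivity
    refine Nat.Prime.not_dvd_mul Nat.prime_two ?_ (Nat.Prime.not_dvd_mul Nat.prime_two ?_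
      (Nat.Prime.not_dvd_mul Nat.prime_two ?_ ?_)) <;> omega
  let S₀ : Sylow 2 ↥G := (IsPGroup.of_card (n := (2 * m + 1) * 12) (by rw [hUc, hq, ← pow_mul])).toSylow hidx
  set z : ↥G := ⟨y, hy⟩
  have hz : IsPGroup 2 (Subgroup.zpowers z) := IsPGroup.of_card (n := 1) (by
    rw [Nat.card_zpowers, pow_one]
    exact (Subgroup.orderOf_mk y hy).trans h2)
  obtain ⟨S, hS⟩ := hz.exists_le_sylow
  obtain ⟨k, hk⟩ := MulAction.exists_smul_eq ↥G S S₀
  have h3 : k * z * k⁻¹ ∈ U := by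
    have h4 : (S₀ : Subgroup ↥G) = U := rfl
    rw [← h4, ← hk, Sylow.coe_subgroup_smul]
    exact ⟨z, hS (Subgroup.mem_zpowers z), rfl⟩
  obtain ⟨hw, hwf⟩ := Subgroup.mem_inf.1 (Subgroup.mem_subgroupOf.1 h3)
  obtain ⟨p, hp⟩ := exists_P hi hw hwf
  have hc : Cj σ y (P σ p) := ⟨k, k.2, hp⟩
  have hp2 : orderOf (P σ p) = 2 := by
    rw [← hp]
    exact (orderOf_injective (MulAut.conj (k : GL chevF4.Idx K)).toMonoidHom
      (MulAut.conj (k : GL chevF4.Idx K)).injective y).trans h2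
  have hpp : P σ p * P σ p = 1 := by rw [← sq, ← hp2, pow_orderOf_eq_one]
  rcases reach hi hpp (Nice.ne_one hp2) with h | h
  · exact .inl (P_b0 (σ := σ) ▸ hc.trans h)
  · exact .inr (P_c7 (σ := σ) ▸ hc.trans h)

lemma rep_mem (hi : F42.Inv2 σ) : Zrep K ∈ (F42.tw σ).fix ∧ Prep K ∈ (F42.tw σ).fix :=
  ⟨P_b0 (σ := σ) ▸ P_fix hi _, P_c7 (σ := σ) ▸ P_fix hi _⟩

omit [Fintype K] in
lemma Zrep_sq : Zrep K * Zrep K = 1 := by
  simp only [Zrep]
  sortX
  simp [CharTwo.add_self_eq_zero, X_zero]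

omit [Fintype K] in
lemma Prep_sq : Prep K * Prep K = 1 := by
  simp only [Prep]
  sortX
  simp [CharTwo.add_self_eq_zero, X_zero]

lemma rep_order (hi : F42.Inv2 σ) : orderOf (Zrep K) = 2 ∧ orderOf (Prep K) = 2 := by
  have e0 : (1 : GL chevF4.Idx K) = P σ ({} : Co K) := by simp [P, pv, zb, one_Z]
  refine ⟨orderOf_eq_prime_iff.2 ⟨(sq _).trans Zrep_sq, fun e => ?_⟩,
    orderOf_eq_prime_iff.2 ⟨(sq _).trans Prep_sq, fun e => ?_⟩⟩
  · rw [← P_b0 (σ := σ), e0] at e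
    exact one_ne_zero (congrArg Co.b0 (P_inj e))
  · rw [← P_c7 (σ := σ), e0] at e
    exact one_ne_zero (congrArg Co.c7 (P_inj e))

/-- exactly two classes -/
theorem class_count (hi : F42.Inv2 σ) (hK : Fintype.card K = 2 ^ (2 * m + 1)) :
    (ConjClasses.mk '' {g : ↥(F42.tw σ).fix | orderOf g = 2}).ncard = 2 := by
  classical
  haveI : Finite (GL chevF4.Idx K) := finite_GL
  set G := (F42.tw σ).fix
  let L : ↥G := ⟨_, (rep_mem hi).1⟩
  let S : ↥G := ⟨_, (rep_mem hi).2⟩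
  have hL2 : orderOf L = 2 := (Subgroup.orderOf_mk _ _).trans (rep_order hi).1
  have hS2 : orderOf S = 2 := (Subgroup.orderOf_mk _ _).trans (rep_order hi).2
  have himg : ConjClasses.mk '' {g : ↥G | orderOf g = 2} = {ConjClasses.mk L, ConjClasses.mk S} := by
    refine Set.Subset.antisymm ?_ ?_
    · rintro _ ⟨g, hg, rfl⟩
      rcases exists_rep hi hK g.2 ((Subgroup.orderOf_coe g).trans hg) with ⟨c, hc, e⟩ | ⟨c, hc, e⟩
      · exact .inl (ConjClasses.mk_eq_mk_iff_isConj.2 (isConj_iff.2 ⟨⟨c, hc⟩, Subtype.ext e⟩))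
      · exact .inr (ConjClasses.mk_eq_mk_iff_isConj.2 (isConj_iff.2 ⟨⟨c, hc⟩, Subtype.ext e⟩))
    · rintro _ (rfl | rfl)
      exacts [⟨L, hL2, rfl⟩, ⟨S, hS2, rfl⟩]
  rw [himg]
  refine Set.ncard_pair fun e => ?_
  obtain ⟨c, hc⟩ := isConj_iff.1 (ConjClasses.mk_eq_mk_iff_isConj.1 e)
  exact not_similar (c : GL chevF4.Idx K) (congrArg Subtype.val hc)

end CfsgLib.Chev.F42Invol
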