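/-
The two involution classes of the Tits group.
-/
import Cfsg.Agent.Lib.Chev.F42Invol.Main

set_option autoImplicit false
set_option maxRecDepth 100000
set_option maxHeartbeats 1000000

namespace CfsgLib.Chev.F42Invol

open Cfsg.Lie Matrix CfsgLib.Chev
open CfsgLib.Chev.F42.Two (K2 T C Cong)

/-- the elements congruent to a power of the outer element -/
noncomputable def congSub : Submonoid (GL chevF4.Idx K2) where
  carrier := {y | ∃ b, Cong y b}
  one_mem' := ⟨false, F42.Two.Cong.one⟩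
  mul_mem' := fun ⟨_, hx⟩ ⟨_, hy⟩ => ⟨_, hx.mul hy⟩

/-- the commutator subgroup has index at most two -/
theorem all_cong {y : GL chevF4.Idx K2} (hy : y ∈ T.fix) : ∃ b, Cong y b := by
  haveI : Finite (GL chevF4.Idx K2) := finite_GL
  let S : Subgroup (GL chevF4.Idx K2) :=
    { congSub with
      inv_mem' := fun {x} hx => by
        have h : x⁻¹ ∈ Submonoid.powers x :=
          (isOfFinOrder_of_finite x).mem_powers_iff_mem_zpowers.2 (inv_mem (Subgroup.mem_zpowers x))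
        exact Submonoid.powers_le.2 hx h }
  have hle : twistedF4 K2 1 ≤ S := by
    refine F42.gen_le F42.Two.hσ (fun t => ?_) (fun t u => ?_) ?_ ?_
    · obtain ⟨o, -, -, h⟩ := F42.Two.class_opts (j := 0) (by decide) (((F42.class0 F42.Two.hi).2 _).2 ⟨t, rfl⟩)
      exact ⟨_, h⟩
    · obtain ⟨o, -, -, h⟩ := F42.Two.class_opts (j := 1) (by decide) (((F42.class1 F42.Two.hi).2 _).2 ⟨t, u, rfl⟩)
      exact ⟨_, h⟩
    · rintro x ⟨b, hb⟩
      exact ⟨b, hb.conj (T.nJ_fix (by decide))⟩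
    · rintro x ⟨b, hb⟩
      exact ⟨b, hb.conj (T.nJ_fix (by decide))⟩
  rw [F42.twisted_eq_fix F42.Two.hσ F42.Two.hi] at hle
  exact hle hy

lemma cong_a : Cong F42.Two.a true := ⟨F42.Two.a_fix, by simpa using F42.Two.a_sq_mem⟩

lemma a_eq : F42.Two.a = X 27 (1 : K2) * X 25 1 * X 28 1 := by
  simp [F42.Two.a, F42.W, F42.quad, xG_zero]

/-- an outer element commuting with each representative -/
lemma outer_rep : (∃ c, Cong c true ∧ c * Zrep K2 * c⁻¹ = Zrep K2) ∧
    (∃ c, Cong c true ∧ c * Prep K2 * c⁻¹ = Prep K2) := by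
  refine ⟨⟨F42.Two.a, cong_a, ?_⟩, ⟨_, cong_a.conj (T.nJ_fix (show 0 < 2 by decide)), ?_⟩⟩
  · rw [mul_inv_eq_iff_eq_mul, a_eq, Zrep]
    sortX
  · rw [mul_inv_eq_iff_eq_mul, ← MulAut.conj_apply, a_eq, Prep]
    simp only [map_mul, n0_27, n0_25, n0_28]
    sortX

/-- involutions of the fixed group with the same representative are conjugate under the commutator subgroup -/
theorem exists_rep_C {y : GL chevF4.Idx K2} (hy : y ∈ T.fix) (h2 : orderOf y = 2) :
    (∃ c ∈ C, c * y * c⁻¹ = Zrep K2) ∨ (∃ c ∈ C, c * y * c⁻¹ = Prep K2) := by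
  have adj : ∀ {r : GL chevF4.Idx K2}, (∃ c, Cong c true ∧ c * r * c⁻¹ = r) →
      (∃ g ∈ T.fix, g * y * g⁻¹ = r) → ∃ c ∈ C, c * y * c⁻¹ = r := by
    rintro r ⟨a', ha', he⟩ ⟨g, hg, hge⟩
    obtain ⟨b, hb⟩ := all_cong hg
    cases b with
    | false => exact ⟨g, by simpa using hb.2, hge⟩
    | true =>
      refine ⟨a' * g, by simpa using (ha'.mul hb).2, ?_⟩
      rw [← hge] at he
      rw [← hge, ← he]
      group
  exact (exists_rep (m := 0) F42.Two.hi (by simp) hy h2).imp (adj outer_rep.1) (adj outer_rep.2)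

/-- exactly two classes in the Tits group -/
theorem tits_class_count :
    (ConjClasses.mk '' {g : TitsGroup | orderOf g = 2}).ncard = 2 := by
  classical
  haveI : Finite (GL chevF4.Idx K2) := finite_GL
  have hG : twistedF4 K2 1 = T.fix := F42.twisted_eq_fix F42.Two.hσ F42.Two.hi
  have mem : ∀ {y : GL chevF4.Idx K2}, y ∈ C → ∃ d : TitsGroup, ((d : ↥(twistedF4 K2 1)) : GL chevF4.Idx K2) = y := by
    intro y hy
    have hmap := Subgroup.map_subtype_commutator (twistedF4 K2 1)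
    have : y ∈ ⁅twistedF4 K2 1, twistedF4 K2 1⁆ := by rwa [hG]
    rw [← hmap] at this
    obtain ⟨d, hd, hde⟩ := this
    exact ⟨⟨d, hd⟩, hde⟩
  have mk : ∀ {y : GL chevF4.Idx K2}, y ∈ T.fix → orderOf y = 2 →
      ∃ d : TitsGroup, orderOf d = 2 ∧ ((d : ↥(twistedF4 K2 1)) : GL chevF4.Idx K2) = y := by
    intro y hy ho
    have hy' : y ∈ twistedF4 K2 1 := by rwa [hG]
    have h2 : orderOf (⟨y, hy'⟩ : ↥(twistedF4 K2 1)) = 2 := (Subgroup.orderOf_mk _ _).trans ho
    exact ⟨⟨⟨y, hy'⟩, F42.Two.involution_mem _ h2⟩, (Subgroup.orderOf_mk _ _).trans h2, rfl⟩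
  obtain ⟨hLm, hSm⟩ := rep_mem (K := K2) F42.Two.hi
  obtain ⟨hLo, hSo⟩ := rep_order (K := K2) F42.Two.hi
  obtain ⟨L, hL2, hL⟩ := mk hLm hLo
  obtain ⟨S, hS2, hS⟩ := mk hSm hSo
  have himg : ConjClasses.mk '' {g : TitsGroup | orderOf g = 2} = {ConjClasses.mk L, ConjClasses.mk S} := by
    refine Set.Subset.antisymm ?_ ?_
    · rintro _ ⟨g, hg, rfl⟩
      have hgf : ((g : ↥(twistedF4 K2 1)) : GL chevF4.Idx K2) ∈ T.fix := hG ▸ (g : ↥(twistedF4 K2 1)).2
      have hgo : orderOf ((g : ↥(twistedF4 K2 1)) : GL chevF4.Idx K2) = 2 := by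
        rw [Subgroup.orderOf_coe, Subgroup.orderOf_coe]
        exact hg
      rcases exists_rep_C hgf hgo with ⟨c, hc, e⟩ | ⟨c, hc, e⟩ <;> obtain ⟨d, rfl⟩ := mem hc
      · refine .inl (ConjClasses.mk_eq_mk_iff_isConj.2 (isConj_iff.2 ⟨d, Subtype.ext (Subtype.ext ?_)⟩))
        rw [hL]
        exact e
      · refine .inr (ConjClasses.mk_eq_mk_iff_isConj.2 (isConj_iff.2 ⟨d, Subtype.ext (Subtype.ext ?_)⟩))
        rw [hS]
        exact e
    · rintro _ (rfl | rfl)
      exacts [⟨L, hL2, rfl⟩, ⟨S, hS2, rfl⟩]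
  rw [himg]
  refine Set.ncard_pair fun e => ?_
  obtain ⟨c, hc⟩ := isConj_iff.1 (ConjClasses.mk_eq_mk_iff_isConj.1 e)
  have := congrArg (fun g : TitsGroup => ((g : ↥(twistedF4 K2 1)) : GL chevF4.Idx K2)) hc
  simp only [Subgroup.coe_mul, Subgroup.coe_inv, hL, hS] at this
  exact not_similar _ this

end CfsgLib.Chev.F42Invol
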